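import Cfsg.Agent.CS64.MaxInter
import Cfsg.Agent.S0731
import Cfsg.Agent.S3993
import Cfsg.Agent.S4702
import Cfsg.Agent.Lib.LinearGroup.PSLTools
import Mathlib.GroupTheory.GroupAction.MultipleTransitivity

/-!
Groups of order `q (q² - 1) / d` in which every `p`-element has centralizer of order `q`
are `PSL₂(q)` (helper64).
-/

set_option autoImplicit false

namespace Cfsg.Agent.CS64

open Subgroup MulAction

universe u

variable {H : Type u} [Group H] [Finite H] {p : ℕ} [hp : Fact p.Prime]

/-- The numerical hypotheses. -/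
structure Numerics (H : Type u) [Group H] (p q d M : ℕ) : Prop where
  qpow : ∃ f, 0 < f ∧ q = p ^ f
  card : Nat.card H = q * M
  dM : d * M + 1 = q ^ 2
  hd : (d = 1 ∧ p = 2) ∨ (d = 2 ∧ p ≠ 2)
  lt : d + 1 < q
  cent : ∀ w : H, w ≠ 1 → (∃ k : ℕ, w ^ p ^ k = 1) → Nat.card (centralizer ({w} : Set H)) = q
  reg : ∀ (ℓ : ℕ) (r : H), ℓ.Prime → orderOf r = ℓ → (centralizer ({r} : Set H)).index ≠ q

variable {q d M : ℕ}

omit [Finite H] in
theorem Numerics.pdvd (h : Numerics H p q d M) : p ∣ q := by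
  obtain ⟨f, hf, rfl⟩ := h.qpow; exact dvd_pow_self p hf.ne'

omit [Finite H] in
theorem Numerics.not_dvd (h : Numerics H p q d M) : ¬ p ∣ M := fun hM => by
  have h1 : p ∣ d * M + 1 := h.dM ▸ dvd_pow h.pdvd two_ne_zero
  exact hp.out.not_dvd_one ((Nat.dvd_add_right (hM.mul_left d)).1 h1)

theorem Numerics.card_sylow (h : Numerics H p q d M) (P : Sylow p H) :
    Nat.card (P : Subgroup H) = q := by
  obtain ⟨f, -, hq⟩ := h.qpow
  rw [P.card_eq_multiplicity, h.card, hq, Nat.factorization_mul (pow_ne_zero _ hp.out.ne_zero)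
    (fun h0 : M = 0 => h.not_dvd (h0 ▸ dvd_zero p)), Finsupp.add_apply, hp.out.factorization_pow,
    Nat.factorization_eq_zero_of_not_dvd h.not_dvd]
  simp

theorem Numerics.pel_iff (h : Numerics H p q d M) (w : H) :
    w ^ q = 1 ↔ ∃ k : ℕ, w ^ p ^ k = 1 := by
  obtain ⟨f, -, hq⟩ := h.qpow
  refine ⟨fun hw => ⟨f, hq ▸ hw⟩, fun ⟨k, hk⟩ => ?_⟩
  have hp' : IsPGroup p (zpowers w) := by
    rintro ⟨z, i, rfl⟩
    refine ⟨k, Subtype.ext ?_⟩
    show (w ^ i) ^ p ^ k = 1
    rw [← zpow_natCast, ← zpow_mul, mul_comm, zpow_mul, zpow_natCast, hk, one_zpow]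
  obtain ⟨P, hP⟩ := hp'.exists_le_sylow
  rw [← h.card_sylow P]
  exact orderOf_dvd_iff_pow_eq_one.1 (Subgroup.orderOf_dvd_natCard _ (hP (mem_zpowers w)))

theorem Numerics.pel_of_mem (h : Numerics H p q d M) {P : Sylow p H} {w : H}
    (hw : w ∈ (P : Subgroup H)) : ∃ k : ℕ, w ^ p ^ k = 1 := by
  obtain ⟨k, hk⟩ := P.2 ⟨w, hw⟩; exact ⟨k, congrArg Subtype.val hk⟩

/-- The centralizer of a `p`-element as a Sylow subgroup. -/
theorem Numerics.exists_sylow (h : Numerics H p q d M) {w : H} (hw : w ≠ 1)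
    (hwp : ∃ k : ℕ, w ^ p ^ k = 1) :
    ∃ P : Sylow p H, (P : Subgroup H) = centralizer ({w} : Set H) := by
  obtain ⟨P₀⟩ := Sylow.nonempty (p := p) (G := H)
  have hcard := h.cent w hw hwp
  have hpg : IsPGroup p (centralizer ({w} : Set H)) := by
    obtain ⟨f, -, hq⟩ := h.qpow; exact IsPGroup.of_card (n := f) (hcard.trans hq)
  obtain ⟨P, hP⟩ := hpg.exists_le_sylow
  exact ⟨P, (Subgroup.eq_of_le_of_card_ge hP (by rw [hcard, h.card_sylow])).symm⟩

theorem Numerics.centralizer_eq (h : Numerics H p q d M) {P : Sylow p H} {w : H} (hw : w ≠ 1)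
    (hwP : w ∈ (P : Subgroup H)) (hc : ∀ u ∈ (P : Subgroup H), Commute u w) :
    centralizer ({w} : Set H) = P := by
  refine (Subgroup.eq_of_le_of_card_ge (fun u hu => mem_centralizer_singleton_iff.2 (hc u hu)) ?_).symm
  rw [h.card_sylow, h.cent w hw (h.pel_of_mem hwP)]

/-- The set of non-trivial central elements of a Sylow subgroup. -/
def ZSet (P : Sylow p H) : Set H :=
  {v | v ≠ 1 ∧ v ∈ (P : Subgroup H) ∧ ∀ u ∈ (P : Subgroup H), Commute u v}

theorem ncard_ZSet_smul (x : H) (P : Sylow p H) : (ZSet (x • P)).ncard = (ZSet P).ncard := by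
  have hmem : ∀ v : H, v ∈ ((x • P : Sylow p H) : Subgroup H) ↔ x⁻¹ * v * x ∈ (P : Subgroup H) := by
    intro v
    rw [Sylow.smul_def, Sylow.pointwise_smul_def, Subgroup.mem_pointwise_smul_iff_inv_smul_mem,
      MulAut.smul_def, ← MulAut.conj.map_inv, MulAut.conj_apply, inv_inv]
  have : ZSet (x • P) = (fun v => x * v * x⁻¹) '' ZSet P := by
    ext v
    constructor
    · rintro ⟨h1, h2, h3⟩
      refine ⟨x⁻¹ * v * x, ⟨fun e => h1 ?_, (hmem v).1 h2, fun u hu => ?_⟩, by group⟩
      · calc v = x * (x⁻¹ * v * x) * x⁻¹ := by group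
          _ = 1 := by rw [e]; group
      · have h4 := (h3 (x * u * x⁻¹) ((hmem _).2 (by
          rw [show x⁻¹ * (x * u * x⁻¹) * x = u by group]; exact hu))).eq
        show u * (x⁻¹ * v * x) = x⁻¹ * v * x * u
        calc u * (x⁻¹ * v * x) = x⁻¹ * (x * u * x⁻¹ * v) * x := by group
          _ = x⁻¹ * (v * (x * u * x⁻¹)) * x := by rw [h4]
          _ = _ := by group
    · rintro ⟨w, ⟨h1, h2, h3⟩, rfl⟩
      refine ⟨fun e => h1 ?_, (hmem _).2 (by rwa [show x⁻¹ * (x * w * x⁻¹) * x = w by group]),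
        fun u hu => ?_⟩
      · calc w = x⁻¹ * (x * w * x⁻¹) * x := by group
          _ = 1 := by rw [show x * w * x⁻¹ = 1 from e]; group
      · have h4 := (h3 _ ((hmem u).1 hu)).eq
        show u * (x * w * x⁻¹) = x * w * x⁻¹ * u
        calc u * (x * w * x⁻¹) = x * (x⁻¹ * u * x * w) * x⁻¹ := by group
          _ = x * (w * (x⁻¹ * u * x)) * x⁻¹ := by rw [h4]
          _ = _ := by group
  rw [this, Set.ncard_image_of_injective _ (fun a b hab => by simpa using hab)]

theorem Numerics.commute_of_mem (h : Numerics H p q d M) {P : Sylow p H} :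
    ∀ a ∈ (P : Subgroup H), ∀ b ∈ (P : Subgroup H), Commute a b := by
  classical
  set Np : Subgroup H := normalizer ((P : Subgroup H) : Set H) with hN
  have hPN : (P : Subgroup H) ≤ Np := le_normalizer
  set hh := (P : Subgroup H).relIndex Np with hhh
  have hn : Nat.card (Sylow p H) * hh = M := by
    have h1 := Subgroup.relIndex_mul_index hPN
    have h2 := (P : Subgroup H).card_mul_index
    rw [← h1, h.card_sylow, h.card] at h2
    have h3 := Nat.eq_of_mul_eq_mul_left (by have := h.lt; omega) h2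
    rw [Sylow.card_eq_index_normalizer P, mul_comm]
    exact h3
  -- `N(P)` acts on the central elements
  have hmapZ : ∀ x ∈ Np, ∀ v ∈ ZSet P, x * v * x⁻¹ ∈ ZSet P := by
    intro x hx v ⟨h1, h2, h3⟩
    refine ⟨fun e => h1 (by
      calc v = x⁻¹ * (x * v * x⁻¹) * x := by group
        _ = 1 := by rw [e]; group), (Subgroup.mem_normalizer_iff.1 hx v).1 h2, fun u hu => ?_⟩
    have h4 := (h3 (x⁻¹ * u * x) ((Subgroup.mem_normalizer_iff.1 hx _).2 (by
      rwa [show x * (x⁻¹ * u * x) * x⁻¹ = u by group]))).eq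
    show u * (x * v * x⁻¹) = x * v * x⁻¹ * u
    calc u * (x * v * x⁻¹) = x * (x⁻¹ * u * x * v) * x⁻¹ := by group
      _ = x * (v * (x⁻¹ * u * x)) * x⁻¹ := by rw [h4]
      _ = _ := by group
  letI act : MulAction Np (ZSet P) :=
    { smul := fun x v => ⟨(x : H) * v * (x : H)⁻¹, hmapZ x x.2 v v.2⟩
      one_smul := fun v => Subtype.ext (show (1 : H) * v * (1 : H)⁻¹ = v by simp)
      mul_smul := fun x y v => Subtype.ext
        (show ((x : H) * y) * v * ((x : H) * y)⁻¹ = (x : H) * ((y : H) * v * (y : H)⁻¹) * (x : H)⁻¹ by group) }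
  have hsmul : ∀ (x : Np) (v : ZSet P), ((x • v : ZSet P) : H) = (x : H) * v * (x : H)⁻¹ := fun _ _ => rfl
  have horb : ∀ v : ZSet P, Nat.card (orbit Np v) = hh := by
    intro v
    rw [Nat.card_coe_set_eq, ← MulAction.index_stabilizer]
    show (stabilizer Np v).index = (P : Subgroup H).relIndex Np
    rw [relIndex]
    congr 1
    ext x
    rw [mem_stabilizer_iff, mem_subgroupOf, Subtype.ext_iff, hsmul]
    constructor
    · intro e
      rw [← h.centralizer_eq v.2.1 v.2.2.1 v.2.2.2, mem_centralizer_singleton_iff]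
      exact mul_inv_eq_iff_eq_mul.1 e
    · intro hx
      rw [(v.2.2.2 _ hx).eq, mul_inv_cancel_right]
  set z := (ZSet P).ncard with hz
  have hzq : z < q := by
    rw [hz, ← h.card_sylow P, ← SetLike.coe_sort_coe, Nat.card_coe_set_eq]
    exact Set.ncard_lt_ncard (Set.ssubset_iff_subset_ne.2 ⟨fun v hv => hv.2.1, fun e => by
      have : (1 : H) ∈ ZSet P := by rw [e]; exact one_mem (P : Subgroup H)
      exact this.1 rfl⟩) (Set.toFinite _)
  set d' := Nat.card (orbitRel.Quotient Np (ZSet P)) with hd'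
  have hzd : z = d' * hh := by
    haveI := Fintype.ofFinite (orbitRel.Quotient Np (ZSet P))
    rw [hz, ← Nat.card_coe_set_eq, Nat.card_congr (selfEquivSigmaOrbits Np (ZSet P)), Nat.card_sigma,
      Finset.sum_congr rfl fun ω _ => horb ω.out, Finset.sum_const, Finset.card_univ, smul_eq_mul,
      hd', Nat.card_eq_fintype_card]
  -- counting `p`-elements
  have hcount : Nat.card {g : H // g ^ q = 1} = Nat.card (Sylow p H) * z + 1 := by
    have hU : {g : H | g ^ q = 1} = insert 1 (⋃ R : Sylow p H, ZSet R) := by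
      ext g
      simp only [Set.mem_setOf_eq, Set.mem_insert_iff, Set.mem_iUnion]
      constructor
      · intro hg
        by_cases hg1 : g = 1
        · exact Or.inl hg1
        · obtain ⟨R, hR⟩ := h.exists_sylow hg1 ((h.pel_iff g).1 hg)
          refine Or.inr ⟨R, hg1, hR ▸ mem_centralizer_singleton_iff.2 rfl, fun u hu => ?_⟩
          exact mem_centralizer_singleton_iff.1 (hR ▸ hu)
      · rintro (rfl | ⟨R, -, hgR, -⟩)
        · exact one_pow q
        · exact (h.pel_iff g).2 (h.pel_of_mem hgR)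
    have hdisj : ∀ R R' : Sylow p H, R ≠ R' → Disjoint (ZSet R) (ZSet R') := fun R R' hne =>
      Set.disjoint_left.2 fun v hv hv' => hne (Sylow.ext ((h.centralizer_eq hv.1 hv.2.1 hv.2.2).symm.trans
        (h.centralizer_eq hv'.1 hv'.2.1 hv'.2.2)))
    haveI := Fintype.ofFinite (Sylow p H)
    show Nat.card {g : H | g ^ q = 1} = _
    rw [Nat.card_coe_set_eq, hU, Set.ncard_insert_of_notMem (by
      simp only [Set.mem_iUnion]; rintro ⟨R, hR⟩; exact hR.1 rfl) (Set.toFinite _),
      Set.ncard_iUnion_of_finite (fun R => Set.toFinite _) hdisj, finsum_eq_sum_of_fintype]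
    rw [Finset.sum_eq_card_nsmul (b := z) fun R _ => by
      obtain ⟨x, rfl⟩ := MulAction.exists_smul_eq H P R
      exact ncard_ZSet_smul x P]
    rw [Finset.card_univ, Nat.card_eq_fintype_card, smul_eq_mul]
  have hdd : d' = d := by
    have h1 : q ∣ Nat.card (Sylow p H) * z + 1 :=
      hcount ▸ S3993.result q (h.card ▸ dvd_mul_right q M)
    rw [hzd, show Nat.card (Sylow p H) * (d' * hh) = d' * (Nat.card (Sylow p H) * hh) by ring, hn] at h1
    have h2 : q ∣ d * M + 1 := h.dM ▸ dvd_pow_self q two_ne_zero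
    have h3 : d' * M ≡ d * M [MOD q] :=
      Nat.ModEq.add_right_cancel' 1 ((Nat.modEq_zero_iff_dvd.2 h1).trans (Nat.modEq_zero_iff_dvd.2 h2).symm)
    have hcop : q.gcd M = 1 := by
      obtain ⟨f, -, rfl⟩ := h.qpow
      exact Nat.Coprime.pow_left f (hp.out.coprime_iff_not_dvd.2 h.not_dvd)
    refine Nat.ModEq.eq_of_lt_of_lt (h3.cancel_right_of_coprime hcop) ?_ (by have := h.lt; omega)
    have hh1 : 0 < hh := Nat.pos_of_ne_zero (by
      intro h0; rw [h0, mul_zero] at hn; exact h.not_dvd (hn ▸ dvd_zero p))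
    calc d' ≤ d' * hh := Nat.le_mul_of_pos_right _ hh1
      _ = z := hzd.symm
      _ < q := hzq
  rw [hdd] at hzd
  -- the central elements have order `p`
  have hexpZ : ∀ v ∈ ZSet P, v ^ p = 1 := by
    by_contra hc
    push Not at hc
    obtain ⟨v, hv, hvp⟩ := hc
    let Ω : Subgroup H :=
      { carrier := {w | w ∈ (P : Subgroup H) ∧ (∀ u ∈ (P : Subgroup H), Commute u w) ∧ w ^ p = 1}
        one_mem' := ⟨one_mem _, fun u _ => Commute.one_right u, one_pow _⟩
        mul_mem' := fun {a b} ha hb => ⟨mul_mem ha.1 hb.1, fun u hu => (ha.2.1 u hu).mul_right (hb.2.1 u hu),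
          by rw [(ha.2.1 b hb.1).symm.mul_pow, ha.2.2, hb.2.2, one_mul]⟩
        inv_mem' := fun {a} ha => ⟨inv_mem ha.1, fun u hu => (ha.2.1 u hu).inv_right,
          by rw [inv_pow, ha.2.2, inv_one]⟩ }
    obtain ⟨k, hk⟩ := h.pel_of_mem hv.2.1
    obtain ⟨j, -, hj⟩ := (Nat.dvd_prime_pow hp.out).1 (orderOf_dvd_of_pow_eq_one hk)
    obtain ⟨w, hw, hwp⟩ : ∃ w ∈ ZSet P, w ^ p = 1 := by
      have hj0 : j ≠ 0 := fun e => hv.1 (orderOf_eq_one_iff.1 (by rw [hj, e, pow_zero]))
      refine ⟨v ^ p ^ (j - 1), ⟨fun e => ?_, pow_mem hv.2.1 _, fun u hu => (hv.2.2 u hu).pow_right _⟩, ?_⟩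
      · have h4 := orderOf_dvd_of_pow_eq_one e
        rw [hj, Nat.pow_dvd_pow_iff_le_right hp.out.one_lt] at h4
        omega
      · rw [← pow_mul, ← pow_succ, show j - 1 + 1 = j by omega, ← hj, pow_orderOf_eq_one]
    set O := fun x : ZSet P => Subtype.val '' (orbit Np x) with hO
    have hOcard : ∀ x, (O x).ncard = hh := fun x => by
      rw [hO, Set.ncard_image_of_injective _ Subtype.val_injective, ← Nat.card_coe_set_eq, horb]
    have hOsub : ∀ x, O x ⊆ ZSet P := by rintro x _ ⟨y, -, rfl⟩; exact y.2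
    have hOp : ∀ x : ZSet P, ∀ y ∈ O x, y ^ p = 1 ↔ (x : H) ^ p = 1 := by
      rintro x _ ⟨_, ⟨n, rfl⟩, rfl⟩
      show ((n : H) * x * (n : H)⁻¹) ^ p = 1 ↔ _
      rw [conj_pow, mul_inv_eq_one, mul_eq_left]
    have hdisj : Disjoint (O ⟨w, hw⟩) (O ⟨v, hv⟩) :=
      Set.disjoint_left.2 fun y hy hy' => hvp ((hOp _ y hy').1 ((hOp _ y hy).2 hwp))
    have hle := Set.ncard_le_ncard (Set.union_subset (hOsub ⟨w, hw⟩) (hOsub ⟨v, hv⟩)) (Set.toFinite _)
    rw [Set.ncard_union_eq hdisj (Set.toFinite _) (Set.toFinite _), hOcard, hOcard, ← hz, hzd] at hle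
    have hh0 : 0 < hh := by
      have := (Set.ncard_pos (Set.toFinite _)).2 ⟨v, hv⟩
      rw [← hz, hzd] at this
      exact pos_of_mul_pos_right this (Nat.zero_le _)
    have hd2 : d = 2 := by
      rcases h.hd with ⟨e, -⟩ | ⟨e, -⟩
      · rw [e, one_mul] at hle; omega
      · exact e
    have hunion : O ⟨w, hw⟩ ∪ O ⟨v, hv⟩ = ZSet P :=
      Set.eq_of_subset_of_ncard_le (Set.union_subset (hOsub _) (hOsub _)) (by
        rw [Set.ncard_union_eq hdisj (Set.toFinite _) (Set.toFinite _), hOcard, hOcard, ← hz, hzd, hd2]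
        omega) (Set.toFinite _)
    have hΩ : (Ω : Set H) = insert 1 (O ⟨w, hw⟩) := by
      ext y
      constructor
      · rintro ⟨h1, h2, h3⟩
        by_cases hy : y = 1
        · exact Or.inl hy
        · have : y ∈ O ⟨w, hw⟩ ∪ O ⟨v, hv⟩ := hunion.symm ▸ (show y ∈ ZSet P from ⟨hy, h1, h2⟩)
          exact this.elim Or.inr fun h' => absurd ((hOp _ y h').1 h3) hvp
      · rintro (rfl | hy)
        · exact one_mem Ω
        · exact ⟨(hOsub _ hy).2.1, (hOsub _ hy).2.2, (hOp _ y hy).2 hwp⟩
    have hΩcard : Nat.card Ω = hh + 1 := by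
      rw [← SetLike.coe_sort_coe, Nat.card_coe_set_eq, hΩ,
        Set.ncard_insert_of_notMem (fun h1 => (hOsub _ h1).1 rfl) (Set.toFinite _), hOcard]
    let Z : Subgroup H :=
      { carrier := {w | w ∈ (P : Subgroup H) ∧ ∀ u ∈ (P : Subgroup H), Commute u w}
        one_mem' := ⟨one_mem _, fun u _ => Commute.one_right u⟩
        mul_mem' := fun {a b} ha hb => ⟨mul_mem ha.1 hb.1, fun u hu => (ha.2 u hu).mul_right (hb.2 u hu)⟩
        inv_mem' := fun {a} ha => ⟨inv_mem ha.1, fun u hu => (ha.2 u hu).inv_right⟩ }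
    have hZcard : Nat.card Z = z + 1 := by
      have : (Z : Set H) = insert 1 (ZSet P) := by
        ext y
        constructor
        · intro hy
          by_cases h1 : y = 1
          · exact Or.inl h1
          · exact Or.inr ⟨h1, hy.1, hy.2⟩
        · rintro (rfl | hy)
          · exact one_mem Z
          · exact ⟨hy.2.1, hy.2.2⟩
      rw [← SetLike.coe_sort_coe, Nat.card_coe_set_eq, this,
        Set.ncard_insert_of_notMem (fun h1 => h1.1 rfl) (Set.toFinite _)]
    have hdvd : ∀ S : Subgroup H, S ≤ (P : Subgroup H) → 1 < Nat.card S → p ∣ Nat.card S := by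
      intro S hS h1
      obtain ⟨i, hi⟩ := IsPGroup.iff_card.1 (P.2.to_le hS)
      rw [hi] at h1 ⊢
      exact dvd_pow_self p (by rintro rfl; simp at h1)
    have d1 := hdvd Ω (fun y hy => hy.1) (by omega)
    have d2 := hdvd Z (fun y hy => hy.1) (by rw [hZcard, hzd, hd2]; omega)
    rw [hΩcard] at d1
    rw [hZcard, hzd, hd2] at d2
    have : p ∣ 1 := (Nat.dvd_add_right d2).1 (by
      rw [show 2 * hh + 1 + 1 = 2 * (hh + 1) by ring]; exact d1.mul_left 2)
    exact hp.out.not_dvd_one this
  have hexp : ∀ x : H, (∃ k : ℕ, x ^ p ^ k = 1) → x ^ p = 1 := by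
    intro x hx
    by_cases hx1 : x = 1
    · rw [hx1, one_pow]
    obtain ⟨R, hR⟩ := h.exists_sylow hx1 hx
    obtain ⟨g, hg⟩ := MulAction.exists_smul_eq H R P
    have hxR : x ∈ ZSet R := ⟨hx1, hR ▸ mem_centralizer_singleton_iff.2 rfl,
      fun u hu => mem_centralizer_singleton_iff.1 (hR ▸ hu)⟩
    have hsm : ∀ y : H, y ∈ (P : Subgroup H) ↔ g⁻¹ * y * g ∈ (R : Subgroup H) := by
      intro y
      rw [← hg, Sylow.smul_def, Sylow.pointwise_smul_def, Subgroup.mem_pointwise_smul_iff_inv_smul_mem,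
        MulAut.smul_def, ← MulAut.conj.map_inv, MulAut.conj_apply, inv_inv]
    have hgx : g * x * g⁻¹ ∈ ZSet P := by
      refine ⟨fun e => hx1 ?_, (hsm _).2 (by rw [show g⁻¹ * (g * x * g⁻¹) * g = x by group]; exact hxR.2.1),
        fun u hu => ?_⟩
      · calc x = g⁻¹ * (g * x * g⁻¹) * g := by group
          _ = 1 := by rw [e]; group
      · have h4 := (hxR.2.2 _ ((hsm u).1 hu)).eq
        show u * (g * x * g⁻¹) = g * x * g⁻¹ * u
        calc u * (g * x * g⁻¹) = g * (g⁻¹ * u * g * x) * g⁻¹ := by group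
          _ = g * (x * (g⁻¹ * u * g)) * g⁻¹ := by rw [h4]
          _ = _ := by group
    have := hexpZ _ hgx
    rwa [conj_pow, mul_inv_eq_one, mul_eq_left] at this
  intro a ha b hb
  by_cases hp2 : p = 2
  · have e : ∀ y ∈ (P : Subgroup H), y⁻¹ = y := fun y hy =>
      inv_eq_of_mul_eq_one_right (by rw [← sq, ← hp2]; exact hexp y (h.pel_of_mem hy))
    show a * b = b * a
    calc a * b = (a * b)⁻¹ := (e _ (mul_mem ha hb)).symm
      _ = b * a := by rw [mul_inv_rev, e a ha, e b hb]
  · by_cases hb1 : b = 1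
    · rw [hb1]; exact Commute.one_right a
    obtain ⟨R, hR⟩ := h.exists_sylow hb1 (h.pel_of_mem hb)
    have hRP : R = P := by
      by_contra hne
      have := disjoint_sylow hp2 hexp (fun x hx hxp => by
        obtain ⟨f, -, hq⟩ := h.qpow
        exact IsPGroup.of_card (n := f) ((h.cent x hx ⟨1, by rwa [pow_one]⟩).trans hq)) R P hne
      exact hb1 (Subgroup.mem_bot.1 (this ▸ ⟨hR ▸ mem_centralizer_singleton_iff.2 rfl, hb⟩))
    exact mem_centralizer_singleton_iff.1 (hR ▸ hRP.symm ▸ ha)

/-- **Recognition of `PSL₂(q)`.** -/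
theorem Numerics.iso (h : Numerics H p q d M) :
    ∃ (F : Type) (_ : Field F) (_ : Fintype F), Fintype.card F = q ∧
      Nonempty (H ≃* Matrix.ProjectiveSpecialLinearGroup (Fin 2) F) := by
  classical
  obtain ⟨P⟩ := Sylow.nonempty (p := p) (G := H)
  have hab := h.commute_of_mem (P := P)
  have hTI : ∀ R R' : Sylow p H, ∀ w ∈ (R : Subgroup H), w ∈ (R' : Subgroup H) → w ≠ 1 → R = R' :=
    fun R R' w hw hw' hw1 => Sylow.ext ((h.centralizer_eq hw1 hw (fun u hu => h.commute_of_mem u hu w hw)).symm.trans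
      (h.centralizer_eq hw1 hw' (fun u hu => h.commute_of_mem u hu w hw')))
  have hCP : ∀ R : Sylow p H, ∀ w ∈ (R : Subgroup H), w ≠ 1 → centralizer ({w} : Set H) = R :=
    fun R w hw hw1 => h.centralizer_eq hw1 hw (fun u hu => h.commute_of_mem u hu w hw)
  have hfree : ∀ R R' : Sylow p H, R ≠ R' → ∀ w ∈ (R : Subgroup H), w • R' = R' → w = 1 := by
    intro R R' hne w hw hfix
    by_contra hw1
    have hwN : w ∈ normalizer ((R' : Subgroup H) : Set H) := Sylow.smul_eq_iff_mem_normalizer.1 hfix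
    have hpR' : IsPGroup p ↥(zpowers w ⊔ (R' : Subgroup H)) :=
      (R.2.to_le (zpowers_le.2 hw)).to_sup_of_normal_right' R'.2 (zpowers_le.2 hwN)
    have e := R'.3 hpR' le_sup_right
    exact hne (hTI R R' w hw (e ▸ Subgroup.mem_sup_left (mem_zpowers w)) hw1)
  haveI := Fintype.ofFinite (Sylow p H)
  -- the number of Sylow subgroups
  set n := Nat.card (Sylow p H) with hn
  obtain ⟨hnq, hstab⟩ : n = q + 1 ∧ Nat.card (stabilizer H P) * d = q * (q - 1) := by
    -- orbit of `N(P)` on the non-trivial elements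
    have h1 : n * Nat.card (stabilizer H P) = q * M := by
      rw [hn, ← h.card, Sylow.card_eq_index_normalizer P, ← Sylow.stabilizer_eq_normalizer P, mul_comm,
        Subgroup.card_mul_index]
    have hcount : Nat.card {g : H // g ^ q = 1} = n * (q - 1) + 1 := by
      have hU : {g : H | g ^ q = 1} = insert 1 (⋃ R : Sylow p H, ((R : Subgroup H) : Set H) \ {1}) := by
        ext g
        simp only [Set.mem_setOf_eq, Set.mem_insert_iff, Set.mem_iUnion, Set.mem_diff, Set.mem_singleton_iff]
        constructor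
        · intro hg
          by_cases hg1 : g = 1
          · exact Or.inl hg1
          · obtain ⟨R, hR⟩ := h.exists_sylow hg1 ((h.pel_iff g).1 hg)
            exact Or.inr ⟨R, SetLike.mem_coe.2 (hR ▸ mem_centralizer_singleton_iff.2 rfl), hg1⟩
        · rintro (rfl | ⟨R, hgR, -⟩)
          · exact one_pow q
          · exact (h.pel_iff g).2 (h.pel_of_mem hgR)
      show Nat.card {g : H | g ^ q = 1} = _
      rw [Nat.card_coe_set_eq, hU, Set.ncard_insert_of_notMem (by simp) (Set.toFinite _),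
        Set.ncard_iUnion_of_finite (fun R => Set.toFinite _) (fun R R' hne => Set.disjoint_left.2
          fun w hw hw' => hne (hTI R R' w hw.1 hw'.1 hw.2)), finsum_eq_sum_of_fintype]
      rw [Finset.sum_eq_card_nsmul (b := q - 1) fun R _ => by
        rw [Set.ncard_diff_singleton_of_mem (one_mem (R : Subgroup H)), ← Nat.card_coe_set_eq]
        exact congrArg (· - 1) (h.card_sylow R)]
      rw [Finset.card_univ, hn, Nat.card_eq_fintype_card, smul_eq_mul]
    -- the stabiliser has order `q h` with `h` dividing `q - 1` semiregularly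
    set Np := stabilizer H P with hNp
    have hPN : (P : Subgroup H) ≤ Np := by
      rw [hNp, Sylow.stabilizer_eq_normalizer]; exact le_normalizer
    have hPcard : Nat.card ((P : Subgroup H).subgroupOf Np) = q := by
      rw [Nat.card_congr (subgroupOfEquivOfLe hPN).toEquiv, h.card_sylow]
    set hh := (P : Subgroup H).relIndex Np with hhh
    have hNcard : Nat.card Np = q * hh := by
      rw [← hPcard, hhh, relIndex, Subgroup.card_mul_index]
    have hmapP : ∀ x ∈ Np, ∀ v ∈ ((P : Subgroup H) : Set H) \ {1}, x * v * x⁻¹ ∈ ((P : Subgroup H) : Set H) \ {1} := by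
      intro x hx v hv
      rw [hNp, Sylow.stabilizer_eq_normalizer] at hx
      exact ⟨(Subgroup.mem_normalizer_iff.1 hx v).1 hv.1, fun e => hv.2 (by
        rw [Set.mem_singleton_iff] at e ⊢
        calc v = x⁻¹ * (x * v * x⁻¹) * x := by group
          _ = 1 := by rw [e]; group)⟩
    letI act : MulAction Np ↥(((P : Subgroup H) : Set H) \ {1}) :=
      { smul := fun x v => ⟨(x : H) * v * (x : H)⁻¹, hmapP x x.2 v v.2⟩
        one_smul := fun v => Subtype.ext (show (1 : H) * v * (1 : H)⁻¹ = v by simp)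
        mul_smul := fun x y v => Subtype.ext
          (show ((x : H) * y) * v * ((x : H) * y)⁻¹ = (x : H) * ((y : H) * v * (y : H)⁻¹) * (x : H)⁻¹ by group) }
    have horb : ∀ v : ↥(((P : Subgroup H) : Set H) \ {1}), Nat.card (orbit Np v) = hh := by
      intro v
      rw [Nat.card_coe_set_eq, ← MulAction.index_stabilizer, hhh, relIndex]
      congr 1
      ext x
      rw [mem_stabilizer_iff, mem_subgroupOf, Subtype.ext_iff]
      show (x : H) * v * (x : H)⁻¹ = v ↔ _
      have e := SetLike.ext_iff.1 (hCP P v v.2.1 v.2.2) (x : H)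
      rw [← e, mem_centralizer_singleton_iff, mul_inv_eq_iff_eq_mul]
    set d' := Nat.card (orbitRel.Quotient Np ↥(((P : Subgroup H) : Set H) \ {1})) with hd'
    have hzd : q - 1 = d' * hh := by
      haveI := Fintype.ofFinite (orbitRel.Quotient Np ↥(((P : Subgroup H) : Set H) \ {1}))
      have : Nat.card ↥(((P : Subgroup H) : Set H) \ {1}) = q - 1 := by
        rw [Nat.card_coe_set_eq, Set.ncard_diff_singleton_of_mem (one_mem (P : Subgroup H)),
          ← Nat.card_coe_set_eq]
        exact congrArg (· - 1) (h.card_sylow P)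
      rw [← this, Nat.card_congr (selfEquivSigmaOrbits Np _), Nat.card_sigma,
        Finset.sum_congr rfl fun ω _ => horb ω.out, Finset.sum_const, Finset.card_univ, smul_eq_mul,
        hd', Nat.card_eq_fintype_card]
    rw [hNcard, show n * (q * hh) = q * (n * hh) by ring] at h1
    have hnh := Nat.eq_of_mul_eq_mul_left (by have := h.lt; omega) h1
    have h3 : q ∣ n * (q - 1) + 1 := hcount ▸ S3993.result q (h.card ▸ dvd_mul_right q M)
    rw [hzd, show n * (d' * hh) = d' * (n * hh) by ring, hnh] at h3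
    have h4 : d' * M ≡ d * M [MOD q] := Nat.ModEq.add_right_cancel' 1
      ((Nat.modEq_zero_iff_dvd.2 h3).trans (Nat.modEq_zero_iff_dvd.2 (h.dM ▸ dvd_pow_self q two_ne_zero)).symm)
    have hcop : q.gcd M = 1 := by
      obtain ⟨f, -, rfl⟩ := h.qpow
      exact Nat.Coprime.pow_left f (hp.out.coprime_iff_not_dvd.2 h.not_dvd)
    have hh1 : 0 < hh := Nat.pos_of_ne_zero (by intro h0; rw [h0, mul_zero] at hzd; have := h.lt; omega)
    have hdd : d' = d := Nat.ModEq.eq_of_lt_of_lt (h4.cancel_right_of_coprime hcop)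
      (by have := Nat.le_mul_of_pos_right d' hh1; have := h.lt; omega) (by have := h.lt; omega)
    rw [hdd] at hzd
    refine ⟨?_, by rw [hNcard, hzd]; ring⟩
    have h5 : n * (q - 1) = (q + 1) * (q - 1) := by
      rw [← Nat.sq_sub_sq, one_pow, ← h.dM, Nat.add_sub_cancel, hzd, ← hnh]; ring
    exact Nat.eq_of_mul_eq_mul_right (by have := h.lt; omega) h5
  -- `P` is regular on the other points
  have hreg : ∀ R S : Sylow p H, R ≠ P → S ≠ P → ∃! u : (P : Subgroup H), (u : H) • R = S := by
    intro R S hR hS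
    let φ : ↥(P : Subgroup H) → {S : Sylow p H // S ≠ P} := fun u => ⟨(u : H) • R, fun e => hR (by
      have hu : (u : H) • P = P :=
        Sylow.smul_eq_iff_mem_normalizer.2 (le_normalizer u.2)
      exact smul_left_cancel _ (e.trans hu.symm))⟩
    have hinj : Function.Injective φ := by
      intro u v huv
      have e : (u : H) • R = (v : H) • R := congrArg Subtype.val huv
      have : (v : H)⁻¹ * u = 1 := hfree P R (Ne.symm hR) _ (mul_mem (inv_mem v.2) u.2) (by
        rw [mul_smul, e, inv_smul_smul])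
      exact Subtype.ext (inv_mul_eq_one.1 this).symm
    have hbij : Function.Bijective φ := by
      rw [Nat.bijective_iff_injective_and_card]
      refine ⟨hinj, ?_⟩
      have : Nat.card {S : Sylow p H // S ≠ P} = n - 1 := by
        rw [hn, Nat.card_eq_fintype_card, Nat.card_eq_fintype_card, Fintype.card_subtype_compl,
          Fintype.card_subtype_eq]
      rw [this, h.card_sylow, hnq, Nat.add_sub_cancel]
    obtain ⟨u, hu⟩ := hbij.2 ⟨S, hS⟩
    exact ⟨u, congrArg Subtype.val hu, fun v hv => hinj (Subtype.ext (hv.trans (congrArg Subtype.val hu).symm))⟩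
  obtain ⟨R₀, hR₀⟩ : ∃ R : Sylow p H, R ≠ P := by
    by_contra hc
    push Not at hc
    haveI : Subsingleton (Sylow p H) := ⟨fun a b => (hc a).trans (hc b).symm⟩
    have : n ≤ 1 := Finite.card_le_one_iff_subsingleton.2 ‹_›
    have := h.lt
    omega
  have h3fix : ∀ g : H, ∀ a b c : Sylow p H, a ≠ b → b ≠ c → a ≠ c → g • a = a → g • b = b → g • c = c → g = 1 := by
    intro g a b c hab' hbc hac ga gb gc
    -- move `a` to `P`
    obtain ⟨x, hx⟩ := MulAction.exists_smul_eq H a P
    have key : ∀ g : H, ∀ b c : Sylow p H, P ≠ b → b ≠ c → P ≠ c → g • P = P → g • b = b → g • c = c → g = 1 := by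
      intro g b c hPb hbc hPc gP gb gc
      obtain ⟨u, hu, -⟩ := hreg b c (Ne.symm hPb) (Ne.symm hPc)
      have hu1 : (u : H) ≠ 1 := fun e => hbc (by rw [← hu, e, one_smul])
      have hk : g⁻¹ * (u : H)⁻¹ * g * u = 1 := by
        refine hfree P b hPb _ (mul_mem ?_ u.2) ?_
        · have hgN : g⁻¹ ∈ normalizer ((P : Subgroup H) : Set H) :=
            inv_mem (Sylow.smul_eq_iff_mem_normalizer.1 gP)
          have := (Subgroup.mem_normalizer_iff.1 hgN _).1 (inv_mem u.2)
          rwa [inv_inv] at this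
        · rw [mul_smul, mul_smul, mul_smul, hu, gc, ← hu, inv_smul_smul, inv_smul_eq_iff, gb]
      have hgc : Commute g u := by
        show g * u = u * g
        calc g * u = (u : H) * g * (g⁻¹ * (u : H)⁻¹ * g * u) := by group
          _ = _ := by rw [hk, mul_one]
      have hgP : g ∈ (P : Subgroup H) := by
        rw [← hCP P u u.2 hu1]; exact mem_centralizer_singleton_iff.2 hgc.eq
      exact hfree P b hPb g hgP gb
    have hconj : ∀ s : Sylow p H, g • s = s → (x * g * x⁻¹) • (x • s) = x • s := fun s hs => by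
      rw [mul_smul, inv_smul_smul, mul_smul, hs]
    have := key (x * g * x⁻¹) (x • b) (x • c) (hx ▸ fun e => hab' (smul_left_cancel x e))
      (fun e => hbc (smul_left_cancel x e)) (hx ▸ fun e => hac (smul_left_cancel x e))
      (hx ▸ hconj a ga) (hconj b gb) (hconj c gc)
    calc g = x⁻¹ * (x * g * x⁻¹) * x := by group
      _ = 1 := by rw [this]; group
  have hfaith : FaithfulSMul H (Sylow p H) := ⟨fun {g₁ g₂} hg => by
    obtain ⟨u, hu, -⟩ := hreg R₀ R₀ hR₀ hR₀
    obtain ⟨R₁, hR₁, hR₁'⟩ : ∃ R : Sylow p H, R ≠ P ∧ R ≠ R₀ := by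
      by_contra hc
      push Not at hc
      have : n ≤ 2 := by
        rw [hn, Nat.card_eq_fintype_card]
        refine le_trans (Finset.card_le_card (t := {P, R₀}) fun R _ => ?_) Finset.card_le_two
        simp only [Finset.mem_insert, Finset.mem_singleton]
        by_cases hRP : R = P
        · exact Or.inl hRP
        · exact Or.inr (hc R hRP)
      have := h.lt
      omega
    have := h3fix (g₂⁻¹ * g₁) P R₀ R₁ hR₀.symm hR₁'.symm hR₁.symm
      (by rw [mul_smul, hg, inv_smul_smul]) (by rw [mul_smul, hg, inv_smul_smul])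
      (by rw [mul_smul, hg, inv_smul_smul])
    exact (inv_mul_eq_one.1 this).symm⟩
  have h2t : IsMultiplyPretransitive H (Sylow p H) 2 := by
    rw [is_two_pretransitive_iff]
    intro a b c e hab' hce
    obtain ⟨x, hx⟩ := MulAction.exists_smul_eq H a P
    obtain ⟨y, hy⟩ := MulAction.exists_smul_eq H c P
    have h1 : x • b ≠ P := hx ▸ fun e' => hab' (smul_left_cancel x e').symm
    have h2 : y • e ≠ P := hy ▸ fun e' => hce (smul_left_cancel y e').symm
    obtain ⟨u, hu, -⟩ := hreg (x • b) (y • e) h1 h2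
    have huP : (u : H) • P = P := Sylow.smul_eq_iff_mem_normalizer.2 (le_normalizer u.2)
    refine ⟨y⁻¹ * u * x, ?_, ?_⟩
    · rw [mul_smul, mul_smul, hx, huP, inv_smul_eq_iff, hy]
    · rw [mul_smul, mul_smul, hu, inv_smul_smul]
  have hstab2 : Nat.card (stabilizer (stabilizer H P) R₀) * d = q - 1 := by
    have horbit : orbit (stabilizer H P) R₀ = {S | S ≠ P} := by
      ext S
      constructor
      · rintro ⟨g, rfl⟩ e
        have hgP : (g : H) • P = P := g.2
        have e' : (g : H) • R₀ = (g : H) • P := by rw [hgP]; exact e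
        exact hR₀ (smul_left_cancel _ e')
      · intro hS
        obtain ⟨u, hu, -⟩ := hreg R₀ S hR₀ hS
        exact ⟨⟨u, Sylow.smul_eq_iff_mem_normalizer.2 (le_normalizer u.2)⟩, hu⟩
    have h1 := (stabilizer (stabilizer H P) R₀).card_mul_index
    rw [MulAction.index_stabilizer, horbit] at h1
    have h2 : ({S | S ≠ P} : Set (Sylow p H)).ncard = q := by
      rw [show ({S | S ≠ P} : Set (Sylow p H)) = {P}ᶜ from rfl, Set.ncard_compl, Set.ncard_singleton,
        ← hn, hnq, Nat.add_sub_cancel]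
    rw [h2] at h1
    rw [← h1, mul_right_comm] at hstab
    exact Nat.eq_of_mul_eq_mul_right (by have := h.lt; omega) (hstab.trans (mul_comm _ _))
  have hnontriv : ∃ g : H, g ≠ 1 ∧ ∃ a b : Sylow p H, a ≠ b ∧ g • a = a ∧ g • b = b := by
    have : Nontrivial (stabilizer (stabilizer H P) R₀) := by
      rw [← Finite.one_lt_card_iff_nontrivial]
      by_contra hc
      have h0 : 0 < Nat.card (stabilizer (stabilizer H P) R₀) := Nat.card_pos
      have h1 : Nat.card (stabilizer (stabilizer H P) R₀) = 1 := by omega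
      rw [h1, one_mul] at hstab2
      have := h.lt
      omega
    obtain ⟨g, hg⟩ := exists_ne (1 : stabilizer (stabilizer H P) R₀)
    exact ⟨g.1.1, fun e => hg (Subtype.ext (Subtype.ext e)), P, R₀, hR₀.symm, g.1.2, g.2⟩
  have hnoreg : ∀ N : Subgroup H, N.Normal → IsPretransitive N (Sylow p H) →
      ∃ a : Sylow p H, stabilizer N a ≠ ⊥ := by
    intro N hN hNt
    by_contra hc
    push Not at hc
    have hcard : Nat.card N = q + 1 := by
      rw [← hnq, hn, ← MulAction.index_stabilizer_of_transitive N P, hc P, Subgroup.index_bot]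
    obtain ⟨ℓ, hℓ, hℓd⟩ := Nat.exists_prime_and_dvd (n := Nat.card N) (by have := h.lt; omega)
    haveI := Fact.mk hℓ
    obtain ⟨⟨r, hrN⟩, hr⟩ := exists_prime_orderOf_dvd_card' ℓ hℓd
    rw [Subgroup.orderOf_mk] at hr
    have hr1 : r ≠ 1 := fun e => hℓ.ne_one (by rw [← hr, e, orderOf_one])
    -- `P` permutes the non-trivial elements of `N` regularly
    let φ : ↥(P : Subgroup H) → {v : N // v ≠ 1} := fun u =>
      ⟨⟨(u : H) * r * (u : H)⁻¹, hN.conj_mem r hrN u⟩, fun e => hr1 (by
        have e' : (u : H) * r * (u : H)⁻¹ = 1 := congrArg Subtype.val e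
        rwa [mul_inv_eq_one, mul_eq_left] at e')⟩
    have hinj : Function.Injective φ := by
      intro u v huv
      have e : (u : H) * r * (u : H)⁻¹ = (v : H) * r * (v : H)⁻¹ := congrArg (fun x => x.1.1) huv
      by_contra hne
      set w := (v : H)⁻¹ * u with hw
      have hw1 : w ≠ 1 := fun e' => hne (Subtype.ext (inv_mul_eq_one.1 e').symm)
      have hwP : w ∈ (P : Subgroup H) := mul_mem (inv_mem v.2) u.2
      have hcomm : Commute r w := by
        show r * w = w * r
        calc r * w = (v : H)⁻¹ * ((v : H) * r * (v : H)⁻¹) * u := by rw [hw]; group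
          _ = w * r := by rw [← e, hw]; group
      have hrP : r ∈ (P : Subgroup H) := by
        rw [← hCP P w hwP hw1]; exact mem_centralizer_singleton_iff.2 hcomm.eq
      have h1 : orderOf r ∣ q := h.card_sylow P ▸ Subgroup.orderOf_dvd_natCard _ hrP
      have h2 : orderOf r ∣ q + 1 := hcard ▸ Subgroup.orderOf_dvd_natCard _ hrN
      exact hr1 (orderOf_eq_one_iff.1 (Nat.dvd_one.1 ((Nat.dvd_add_right h1).1 h2)))
    have hcardS : Nat.card {v : N // v ≠ 1} = q := by
      haveI := Fintype.ofFinite N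
      rw [Nat.card_eq_fintype_card, Fintype.card_subtype_compl, Fintype.card_subtype_eq,
        ← Nat.card_eq_fintype_card, hcard, Nat.add_sub_cancel]
    have hbij : Function.Bijective φ := (Nat.bijective_iff_injective_and_card φ).2
      ⟨hinj, by rw [hcardS, h.card_sylow]⟩
    have horb : MulAction.orbit (ConjAct H) r = {v : H | v ∈ N ∧ v ≠ 1} := by
      ext v
      constructor
      · rintro ⟨g, rfl⟩
        show g • r ∈ N ∧ g • r ≠ 1
        rw [ConjAct.smul_def]
        exact ⟨hN.conj_mem r hrN _, fun e => hr1 (by rwa [mul_inv_eq_one, mul_eq_left] at e)⟩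
      · rintro ⟨hvN, hv1⟩
        obtain ⟨u, hu⟩ := hbij.2 ⟨⟨v, hvN⟩, fun e => hv1 (congrArg Subtype.val e)⟩
        refine ⟨ConjAct.toConjAct (u : H), ?_⟩
        show ConjAct.toConjAct (u : H) • r = v
        rw [ConjAct.toConjAct_smul]
        exact congrArg (fun x => x.1.1) hu
    refine h.reg ℓ r hℓ hr ?_
    have h1 := MulAction.index_stabilizer (ConjAct H) r
    rw [horb] at h1
    have h2 : ({v : H | v ∈ N ∧ v ≠ 1}).ncard = q := by
      rw [show {v : H | v ∈ N ∧ v ≠ 1} = (N : Set H) \ {1} from Set.ext fun v => Iff.rfl,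
        Set.ncard_diff_singleton_of_mem (one_mem N), ← Nat.card_coe_set_eq]
      exact (congrArg (· - 1) hcard).trans (Nat.add_sub_cancel q 1)
    rw [h2] at h1
    rw [← h1, ConjAct.stabilizer_eq_centralizer]
    rfl
  have hZ : Cfsg.IsZassenhausGroup H (Sylow p H) := ⟨hfaith, h2t, h3fix, hnontriv, hnoreg⟩
  have hPle : (P : Subgroup H) ≤ stabilizer H P := by
    rw [Sylow.stabilizer_eq_normalizer]; exact le_normalizer
  have hPn : ((P : Subgroup H).subgroupOf (stabilizer H P)).Normal := by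
    rw [Sylow.stabilizer_eq_normalizer]; exact Subgroup.normal_in_normalizer
  have hPab : IsMulCommutative (P : Subgroup H) := ⟨⟨fun a b => Subtype.ext (hab a.1 a.2 b.1 b.2).eq⟩⟩
  have hq2 : q ^ 2 = d * M + 1 := h.dM.symm
  rcases h.hd with ⟨hd, hp2⟩ | ⟨hd, hp2⟩
  · -- even case: sharply triply transitive
    have hcard3 : Nat.card H = Nat.card (Fin 3 ↪ Sylow p H) := by
      rw [Nat.card_eq_fintype_card (α := Fin 3 ↪ Sylow p H), Fintype.card_embedding_eq, Fintype.card_fin,
        ← Nat.card_eq_fintype_card, ← hn, hnq]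
      simp only [Nat.descFactorial_succ, Nat.descFactorial_zero, Nat.sub_zero, mul_one]
      rw [h.card, Nat.add_sub_cancel, show q + 1 - 2 = q - 1 by omega]
      rw [hd, one_mul] at hq2
      have : M = (q + 1) * (q - 1) := by rw [← Nat.sq_sub_sq, one_pow, hq2, Nat.add_sub_cancel]
      rw [this]; ring
    have h3t : IsMultiplyPretransitive H (Sylow p H) 3 := by
      obtain ⟨R₁, hR₁, hR₁'⟩ : ∃ R : Sylow p H, R ≠ P ∧ R ≠ R₀ := by
        by_contra hc
        push Not at hc
        have : n ≤ 2 := by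
          rw [hn, Nat.card_eq_fintype_card]
          refine le_trans (Finset.card_le_card (t := {P, R₀}) fun R _ => ?_) Finset.card_le_two
          simp only [Finset.mem_insert, Finset.mem_singleton]
          by_cases hRP : R = P
          · exact Or.inl hRP
          · exact Or.inr (hc R hRP)
        have := h.lt
        omega
      have htriv : ∀ t : Fin 3 ↪ Sylow p H, stabilizer H t = ⊥ := by
        intro t
        rw [eq_bot_iff]
        intro g hg
        have hg' : ∀ i, g • t i = t i := fun i => by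
          have := congrArg (fun s : Fin 3 ↪ Sylow p H => s i) (mem_stabilizer_iff.1 hg)
          simpa using this
        exact Subgroup.mem_bot.2 (h3fix g (t 0) (t 1) (t 2) (fun e => by simpa using t.injective e)
          (fun e => by simpa using t.injective e) (fun e => by simpa using t.injective e) (hg' 0) (hg' 1) (hg' 2))
      have hsurj : ∀ t : Fin 3 ↪ Sylow p H, orbit H t = Set.univ := by
        intro t
        apply Set.eq_of_subset_of_ncard_le (Set.subset_univ _) _ (Set.toFinite _)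
        rw [Set.ncard_univ, ← MulAction.index_stabilizer, htriv t, Subgroup.index_bot, hcard3]
      refine ⟨fun s t => ?_⟩
      have : t ∈ orbit H s := by rw [hsurj s]; trivial
      exact this
    obtain ⟨e⟩ : Nonempty (H ≃* (MulAction.toPermHom H (Sylow p H)).range) :=
      ⟨MonoidHom.ofInjective (MulAction.toPerm_injective (α := H) (β := Sylow p H))⟩
    haveI := h3t
    have hG3 : IsMultiplyPretransitive (MulAction.toPermHom H (Sylow p H)).range (Sylow p H) 3 := by
      refine ⟨fun s t => ?_⟩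
      obtain ⟨g, hg⟩ := MulAction.exists_smul_eq H s t
      exact ⟨⟨_, g, rfl⟩, by rw [← hg]; rfl⟩
    have hfix : ∀ g : (MulAction.toPermHom H (Sylow p H)).range,
        3 ≤ Nat.card (MulAction.fixedBy (Sylow p H) g) → g = 1 := by
      rintro ⟨_, g, rfl⟩ hg
      rw [Nat.card_coe_set_eq] at hg
      obtain ⟨s, hs, hs3⟩ := Set.exists_subset_card_eq hg
      obtain ⟨a, b, c, hab', hac, hbc, rfl⟩ := Set.ncard_eq_three.1 hs3
      have hf : ∀ y ∈ ({a, b, c} : Set (Sylow p H)), g • y = y := fun y hy => hs hy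
      have : g = 1 := h3fix g a b c hab' hbc hac (hf a (by simp)) (hf b (by simp)) (hf c (by simp))
      exact Subtype.ext (show MulAction.toPermHom H (Sylow p H) g = 1 by rw [this, map_one])
    obtain ⟨f, hf0, hqf⟩ := h.qpow
    have hFc : Fintype.card (Sylow p H) = q + 1 := by rw [← Nat.card_eq_fintype_card, ← hn, hnq]
    obtain ⟨a, -, ha, F, iF, iF', hF, ⟨e'⟩⟩ := S4702.result (by rw [hFc]; have := h.lt; omega)
      (by rw [hFc, hqf, hp2]; exact (Nat.even_pow.2 ⟨by decide, hf0.ne'⟩).add_one) _ hG3 hfix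
    have hFq : Fintype.card F = q := by omega
    refine ⟨F, iF, iF', hFq, ⟨(e.trans e').trans (LinearGroup.slEquivPSL ?_)⟩⟩
    rw [Fintype.card_fin, Nat.card_eq_fintype_card, hFq, ← Nat.coprime_iff_gcd_eq_one,
      Nat.coprime_two_left, hqf, hp2]
    obtain ⟨f', rfl⟩ : ∃ f', f = f' + 1 := ⟨f - 1, by omega⟩
    exact ⟨2 ^ f' - 1, by have := Nat.two_pow_pos f'; rw [pow_succ]; omega⟩
  · -- odd case
    rcases S0731.result hZ P (P : Subgroup H) hPle hPn hPab hreg with ⟨h3t, h3s⟩ | ⟨K, iK, iK', hK, ⟨e⟩⟩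
    · exfalso
      obtain ⟨R₁, hR₁, hR₁'⟩ : ∃ R : Sylow p H, R ≠ P ∧ R ≠ R₀ := by
        by_contra hc
        push Not at hc
        have : n ≤ 2 := by
          rw [hn, Nat.card_eq_fintype_card]
          refine le_trans (Finset.card_le_card (t := {P, R₀}) fun R _ => ?_) Finset.card_le_two
          simp only [Finset.mem_insert, Finset.mem_singleton]
          by_cases hRP : R = P
          · exact Or.inl hRP
          · exact Or.inr (hc R hRP)
        have := h.lt
        omega
      have hinj : Function.Injective ![P, R₀, R₁] := by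
        intro i j; fin_cases i <;> fin_cases j <;> simp [hR₀, hR₀.symm, hR₁, hR₁.symm, hR₁', hR₁'.symm]
      let t : Fin 3 ↪ Sylow p H := ⟨_, hinj⟩
      haveI := h3t
      have h1 := MulAction.index_stabilizer_of_transitive H t
      rw [h3s t, Subgroup.index_bot, Nat.card_eq_fintype_card (α := Fin 3 ↪ Sylow p H),
        Fintype.card_embedding_eq, Fintype.card_fin, ← Nat.card_eq_fintype_card, ← hn, hnq] at h1
      simp only [Nat.descFactorial_succ, Nat.descFactorial_zero, Nat.sub_zero, mul_one] at h1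
      rw [h.card, Nat.add_sub_cancel, show q + 1 - 2 = q - 1 by omega] at h1
      have h2 : 2 * M = (q + 1) * (q - 1) := by rw [← Nat.sq_sub_sq, one_pow, hq2, hd, Nat.add_sub_cancel]
      have h3 : (q - 1) * (q * (q + 1)) * 1 = (q * (q + 1) * (q - 1)) := by ring
      have h4 : q * (2 * M) = q * M := by rw [h2, h1]; ring
      have : 0 < q * M := by rw [← h.card]; exact Nat.card_pos
      linarith
    · have hKodd : ¬ 2 ∣ Fintype.card K := fun hd' => hK (FiniteField.even_card_iff_char_two.2 (Nat.dvd_iff_mod_eq_zero.1 hd'))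
      have h1 := LinearGroup.gcd_mul_card_PSL_two (F := K)
      rw [← Nat.card_congr e.toEquiv, h.card, Nat.card_eq_fintype_card,
        show Nat.gcd 2 (Fintype.card K - 1) = 2 from Nat.gcd_eq_left (by omega)] at h1
      refine ⟨K, iK, iK', ?_, ⟨e⟩⟩
      have h2 : 2 * M = q ^ 2 - 1 := by rw [hq2, hd, Nat.add_sub_cancel]
      have h3 : Fintype.card K * (Fintype.card K ^ 2 - 1) = q * (q ^ 2 - 1) := by
        rw [← h1, ← h2]; ring
      have hk2 : 2 ≤ Fintype.card K := Fintype.one_lt_card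
      by_contra hne
      rcases lt_or_gt_of_ne hne with hlt | hlt
      · have := Nat.mul_lt_mul'' hlt (Nat.sub_lt_sub_right (Nat.one_le_pow _ _ (by omega)) (Nat.pow_lt_pow_left hlt two_ne_zero))
        omega
      · have := Nat.mul_lt_mul'' hlt (Nat.sub_lt_sub_right (Nat.one_le_pow _ _ (by have := h.lt; omega)) (Nat.pow_lt_pow_left hlt two_ne_zero))
        omega

end Cfsg.Agent.CS64
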