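import Cfsg.Agent.CS64.Size
import Cfsg.Agent.CS64.CPGroup

/-!
The class-size sets of `PSL₂(q)` determine the order of `G / Z(G)` and the centralizers of its
`p`-elements (helper64).
-/

set_option autoImplicit false

namespace Cfsg.Agent.CS64

open Subgroup

universe u

variable {G : Type u} [Group G] [Finite G]

/-- The data deduced from the class sizes. -/
structure SizeData (G : Type u) [Group G] (p q d M : ℕ) : Prop where
  qpow : ∃ f, 0 < f ∧ q = p ^ f
  index : (center G).index = q * M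
  dM : d * M + 1 = q ^ 2
  hd : (d = 1 ∧ p = 2) ∨ (d = 2 ∧ p ≠ 2)
  lt : d + 1 < q
  pel : ∀ g : G, Ess p g → sz g = M
  nopow : ∀ (ℓ k : ℕ) (g : G), ℓ.Prime → sz g = q * ℓ ^ k → ¬ ℓ ^ (k + 1) ∣ M

variable {p q d M : ℕ} [hp : Fact p.Prime]

omit [Finite G] in
theorem SizeData.not_dvd (h : SizeData G p q d M) : ¬ p ∣ M := fun hM => by
  obtain ⟨f, hf, hq⟩ := h.qpow
  have h1 : p ∣ d * M + 1 := h.dM ▸ dvd_pow (hq ▸ dvd_pow_self p hf.ne') two_ne_zero
  exact hp.out.not_dvd_one ((Nat.dvd_add_right (hM.mul_left d)).1 h1)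

/-- The centralizer in `G / Z(G)` of a `p`-element is the image of the centralizer in `G`. -/
theorem SizeData.map_eq (h : SizeData G p q d M) {g : G} (hg : Ess p g) :
    centralizer ({(QuotientGroup.mk g : G ⧸ center G)} : Set (G ⧸ center G)) =
        (centralizer ({g} : Set G)).map (QuotientGroup.mk' (center G)) ∧
      (centralizer ({(QuotientGroup.mk g : G ⧸ center G)} : Set (G ⧸ center G))).index = M := by
  obtain ⟨k, hk, hk0⟩ := index_mk hp.out hg
  rw [h.pel g hg] at hk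
  have : k = 0 := by
    by_contra hne
    exact h.not_dvd (hk ▸ (dvd_pow_self p hne).mul_left _)
  exact ⟨hk0 this, by rw [hk, this, pow_zero, mul_one]⟩

theorem SizeData.numerics (h : SizeData G p q d M) : Numerics (G ⧸ center G) p q d M where
  qpow := h.qpow
  card := h.index
  dM := h.dM
  hd := h.hd
  lt := h.lt
  cent := by
    intro w hw hwp
    obtain ⟨g, hg, hgc⟩ := exists_lift hp.out hw hwp
    have hC : centralizer ({w} : Set (G ⧸ center G)) =
        centralizer ({(QuotientGroup.mk g : G ⧸ center G)} : Set (G ⧸ center G)) := by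
      ext y; rw [mem_C, mem_C]; exact hgc y
    rw [hC]
    have h1 := (centralizer ({(QuotientGroup.mk g : G ⧸ center G)} : Set (G ⧸ center G))).card_mul_index
    rw [(h.map_eq hg).2, show Nat.card (G ⧸ center G) = (center G).index from rfl, h.index] at h1
    exact Nat.eq_of_mul_eq_mul_right (Nat.pos_of_ne_zero fun e : M = 0 => h.not_dvd (e ▸ dvd_zero p)) h1
  reg := by
    intro ℓ r hℓ hr hidx
    obtain ⟨g, hg, hgc⟩ := exists_lift hℓ (z := r) (fun e => hℓ.ne_one (by rw [← hr, e, orderOf_one]))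
      ⟨1, by rw [pow_one, ← hr, pow_orderOf_eq_one]⟩
    have hC : centralizer ({r} : Set (G ⧸ center G)) =
        centralizer ({(QuotientGroup.mk g : G ⧸ center G)} : Set (G ⧸ center G)) := by
      ext y; rw [mem_C, mem_C]; exact hgc y
    rw [hC] at hidx
    obtain ⟨k, hk, -⟩ := index_mk hℓ hg
    rw [hidx] at hk
    have h1 := hg.dvd_self hℓ
    rw [h.index, hk, show ℓ * (q * ℓ ^ k) = q * ℓ ^ (k + 1) by ring] at h1
    exact h.nopow ℓ k g hℓ hk (Nat.dvd_of_mul_dvd_mul_left (by have := h.lt; omega) h1)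

/-- A prime power factor cannot grow inside a coprime product. -/
theorem not_pow_succ_dvd {ℓ k u v : ℕ} (hℓ : ℓ.Prime) (hu : 1 < u) (hcop : u.Coprime v)
    (he : u = ℓ ^ k) : ¬ ℓ ^ (k + 1) ∣ u * v := by
  intro h
  subst he
  have hk : k ≠ 0 := by rintro rfl; simp at hu
  rw [pow_succ] at h
  have h1 : ℓ ∣ v := Nat.dvd_of_mul_dvd_mul_left (pow_pos hℓ.pos k) h
  exact hℓ.not_dvd_one (hcop.gcd_eq_one ▸ Nat.dvd_gcd (dvd_pow_self ℓ hk) h1)

theorem even_case {f u v : ℕ} (hf : 2 ≤ f) (hq : q = 2 ^ f) (hu : u + 1 = q) (hv : v = q + 1)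
    (hall : ∀ g : G, sz g = 1 ∨ sz g = u * v ∨ sz g = q * u ∨ sz g = q * v)
    (hb : ∃ g : G, sz g = u * v) (ha : ∃ g : G, sz g = q * u) (hc : ∃ g : G, sz g = q * v) :
    SizeData G 2 q 1 (u * v) := by
  haveI : Fact (Nat.Prime 2) := ⟨Nat.prime_two⟩
  obtain ⟨f', rfl⟩ : ∃ f', f = f' + 1 := ⟨f - 1, by omega⟩
  have hq2 : 2 ∣ q := hq ▸ dvd_pow_self 2 (by omega)
  have h4 : 4 ≤ q := hq ▸ (show 4 = 2 ^ 2 from rfl) ▸ Nat.pow_le_pow_right (by norm_num) hf
  have hu3 : 3 ≤ u := by omega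
  have hv5 : 5 ≤ v := by omega
  have hqu : q.Coprime u := by
    rw [← hu]; exact Nat.coprime_self_add_left.2 (Nat.coprime_one_left u)
  have hqv : q.Coprime v := by
    rw [hv]; exact Nat.coprime_self_add_right.2 (Nat.coprime_one_right q)
  have huv : u.Coprime v := by
    have : v = u + 2 := by omega
    rw [this, Nat.coprime_self_add_right, Nat.coprime_two_right]
    obtain ⟨t, ht⟩ := hq2; exact ⟨t - 1, by omega⟩
  have hodd_u : ¬ 2 ∣ u := by omega
  have hodd_v : ¬ 2 ∣ v := by omega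
  have hb_odd : ¬ 2 ∣ u * v := fun h => (Nat.prime_two.dvd_mul.1 h).elim hodd_u hodd_v
  have n1 : ¬ q ∣ u * v := fun h => hb_odd (hq2.trans h)
  have n2 : ¬ u ∣ q * v := fun h => by
    have := Nat.Coprime.eq_one_of_dvd ((hqu.symm).mul_right huv) h; omega
  have n3 : ¬ v ∣ q * u := fun h => by
    have := Nat.Coprime.eq_one_of_dvd ((hqv.symm).mul_right huv.symm) h; omega
  have hne1 : u * v ≠ 1 := by nlinarith
  have hMinB : MinSz G (u * v) := fun g h => by
    rcases hall g with e | e | e | e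
    · rw [e] at h; exact absurd (Nat.dvd_one.1 h) hne1
    · exact e
    · rw [e] at h; exact absurd ((Nat.dvd_mul_left v u).trans h) n3
    · rw [e] at h; exact absurd ((Nat.dvd_mul_right u v).trans h) n2
  have hMaxB : MaxSz G (u * v) := fun g hg h => by
    rcases hall g with e | e | e | e
    · exact absurd (sz_eq_one_iff.1 e) hg
    · exact e
    · rw [e] at h; exact absurd ((Nat.dvd_mul_right q u).trans h) n1
    · rw [e] at h; exact absurd ((Nat.dvd_mul_right q v).trans h) n1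
  have hMinA : MinSz G (q * u) := fun g h => by
    rcases hall g with e | e | e | e
    · rw [e] at h; exact absurd ((Nat.dvd_mul_right q u).trans (h.trans (one_dvd (u * v)))) n1
    · rw [e] at h; exact absurd ((Nat.dvd_mul_right q u).trans h) n1
    · exact e
    · rw [e] at h; exact absurd ((Nat.dvd_mul_left u q).trans h) n2
  have hMaxA : MaxSz G (q * u) := fun g hg h => by
    rcases hall g with e | e | e | e
    · exact absurd (sz_eq_one_iff.1 e) hg
    · rw [e] at h; exact absurd ((Nat.dvd_mul_left v u).trans h) n3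
    · exact e
    · rw [e] at h; exact absurd ((Nat.dvd_mul_left v q).trans h) n3
  have hMinC : MinSz G (q * v) := fun g h => by
    rcases hall g with e | e | e | e
    · rw [e] at h; exact absurd ((Nat.dvd_mul_right q v).trans (h.trans (one_dvd (u * v)))) n1
    · rw [e] at h; exact absurd ((Nat.dvd_mul_right q v).trans h) n1
    · rw [e] at h; exact absurd ((Nat.dvd_mul_left v q).trans h) n3
    · exact e
  have hMaxC : MaxSz G (q * v) := fun g hg h => by
    rcases hall g with e | e | e | e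
    · exact absurd (sz_eq_one_iff.1 e) hg
    · rw [e] at h; exact absurd ((Nat.dvd_mul_right u v).trans h) n2
    · rw [e] at h; exact absurd ((Nat.dvd_mul_left u q).trans h) n2
    · exact e
  have hquv : q * (u * v) ∣ (center G).index := by
    obtain ⟨g₁, e₁⟩ := hb
    obtain ⟨g₂, e₂⟩ := ha
    exact (Nat.Coprime.mul_right hqu hqv).mul_dvd_of_dvd_of_dvd
      ((Nat.dvd_mul_right q u).trans (e₂ ▸ sz_dvd g₂)) (e₁ ▸ sz_dvd g₁)
  obtain ⟨x, hx, hxs⟩ := exists_size (ℓ := 2) Nat.prime_two hb hne1 hMinB hMaxB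
    ((Nat.mul_dvd_mul_right hq2 _).trans hquv)
  have step2 : ∀ y : G, Ess 2 y → sz y = u * v := by
    intro y hy
    obtain ⟨y', hy', hys, hyc⟩ := exists_conj Nat.prime_two (u := x) (hxs ▸ hb_odd) hy
    rcases hall y with e | e | e | e
    · exact absurd (sz_eq_one_iff.1 e) hy.1
    · exact e
    · obtain ⟨m, hm, hmd⟩ := Nat.exists_prime_and_dvd (n := v) (by omega)
      have := same_size Nat.prime_two hm (fun h => hodd_v (h ▸ hmd)) hx hy' hyc.symm
        (by rw [hys, e]; exact (Nat.mul_dvd_mul_right hmd _).trans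
              ((dvd_of_eq (by ring : v * (q * u) = q * (u * v))).trans hquv))
        (by rw [hys, e]; exact hMinA) (by rw [hys, e]; exact hMaxA)
      rw [hxs, hys, e] at this
      exact absurd ⟨u, this⟩ n1
    · obtain ⟨m, hm, hmd⟩ := Nat.exists_prime_and_dvd (n := u) (by omega)
      have := same_size Nat.prime_two hm (fun h => hodd_u (h ▸ hmd)) hx hy' hyc.symm
        (by rw [hys, e]; exact (Nat.mul_dvd_mul_right hmd _).trans
              ((dvd_of_eq (by ring : u * (q * v) = q * (u * v))).trans hquv))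
        (by rw [hys, e]; exact hMinC) (by rw [hys, e]; exact hMaxC)
      rw [hxs, hys, e] at this
      exact absurd ⟨v, this⟩ n1
  obtain ⟨r, hr⟩ := hquv
  have hr1 : r = 1 := by
    by_contra hne
    obtain ⟨ℓ, hℓ, hℓr⟩ := Nat.exists_prime_and_dvd hne
    by_cases hℓ2 : ℓ = 2
    · subst hℓ2
      have h2 : 2 * (q * u) ∣ (center G).index := by
        rw [hr, show q * (u * v) * r = q * u * v * r by ring, mul_comm 2]
        exact mul_dvd_mul (dvd_mul_right (q * u) v) hℓr
      obtain ⟨y, hy, hys⟩ := exists_size hℓ ha (fun h => n1 ((Nat.dvd_mul_right q u).trans (h ▸ one_dvd _))) hMinA hMaxA h2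
      rw [step2 y hy] at hys
      exact n1 ⟨u, hys⟩
    have key : ∀ w : ℕ, (∃ g : G, sz g = q * w) → ¬ ℓ ∣ q * w → MinSz G (q * w) → MaxSz G (q * w) →
        ℓ * (q * w) ∣ (center G).index → False := by
      intro w hw hℓw hmin hmax hdvd
      obtain ⟨τ, hτ, hτs⟩ := exists_size hℓ hb hne1 hMinB hMaxB (by
        rw [hr, mul_comm ℓ, show q * (u * v) * r = q * ((u * v) * r) by ring]
        exact (mul_dvd_mul_left _ hℓr).trans (dvd_mul_left _ _))
      obtain ⟨y, hy, hys⟩ := exists_size hℓ hw (fun h => n1 ((Nat.dvd_mul_right q w).trans (h ▸ one_dvd _))) hmin hmax hdvd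
      obtain ⟨τ', hτ', hτs', hτc⟩ := exists_conj hℓ (u := y) (hys ▸ hℓw) hτ
      have := same_size hℓ Nat.prime_two hℓ2 hy hτ' hτc.symm
        (by rw [hτs', hτs, hr]; exact Dvd.dvd.mul_right (Nat.mul_dvd_mul_right hq2 _) r)
        (by rw [hτs', hτs]; exact hMinB) (by rw [hτs', hτs]; exact hMaxB)
      rw [hys, hτs', hτs] at this
      exact n1 ⟨w, this.symm⟩
    have hℓq : ¬ ℓ ∣ q := fun h => hℓ2 ((Nat.prime_dvd_prime_iff_eq hℓ Nat.prime_two).1 (hℓ.dvd_of_dvd_pow (hq ▸ h)))
    by_cases hℓu : ℓ ∣ u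
    · refine key v hc (fun h => (hℓ.dvd_mul.1 h).elim hℓq fun h' => hℓ.not_dvd_one ?_) hMinC hMaxC ?_
      · exact huv.gcd_eq_one ▸ Nat.dvd_gcd hℓu h'
      · rw [hr, show q * (u * v) * r = (u * r) * (q * v) by ring]
        exact Nat.mul_dvd_mul_right (hℓr.mul_left u) _
    · refine key u ha (fun h => (hℓ.dvd_mul.1 h).elim hℓq hℓu) hMinA hMaxA ?_
      rw [hr, show q * (u * v) * r = (v * r) * (q * u) by ring]
      exact Nat.mul_dvd_mul_right (hℓr.mul_left v) _
  rw [hr1, mul_one] at hr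
  refine ⟨⟨f' + 1, by omega, hq⟩, hr, ?_, Or.inl ⟨rfl, rfl⟩, by omega, fun g hg => step2 g hg, ?_⟩
  · have : q = u + 1 := hu.symm
    subst this; subst hv; ring
  · intro ℓ k g hℓ hgs
    have hgc : sz g ≠ 1 := fun e => n1 (by
      rw [e] at hgs; exact (Nat.dvd_mul_right q (ℓ ^ k)).trans (hgs ▸ one_dvd _))
    rcases hall g with e | e | e | e
    · exact absurd e hgc
    · exact absurd ⟨ℓ ^ k, e ▸ hgs⟩ n1
    · rw [e] at hgs
      exact not_pow_succ_dvd hℓ (by omega) huv (Nat.eq_of_mul_eq_mul_left (by omega) hgs)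
    · rw [e] at hgs
      rw [mul_comm u]
      exact not_pow_succ_dvd hℓ (by omega) huv.symm (Nat.eq_of_mul_eq_mul_left (by omega) hgs)

theorem odd_case {f u v : ℕ} (hf : 0 < f) (hp2 : p ≠ 2) (hq : q = p ^ f) (h7 : 7 ≤ q)
    (hu : Odd u) (hu3 : 3 ≤ u) (hv : 4 ∣ v) (hv0 : v ≠ 0) (huv1 : 2 * (u * v) + 1 = q ^ 2)
    (huv : u.Coprime v)
    (hall : ∀ g : G, sz g = 1 ∨ sz g = u * v ∨ sz g = q * u ∨ sz g = 2 * (q * u) ∨ sz g = q * v)
    (hb : ∃ g : G, sz g = u * v) (hi : ∃ g : G, sz g = q * u) (hc : ∃ g : G, sz g = q * v) :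
    SizeData G p q 2 (u * v) ∧ MaxSz G (q * u) := by
  have hpq : p ∣ q := hq ▸ dvd_pow_self p hf.ne'
  have hq2 : q.Coprime (u * v) := by
    rw [Nat.coprime_iff_gcd_eq_one, ← Nat.dvd_one]
    have h1 : q.gcd (u * v) ∣ 2 * (u * v) + 1 := huv1 ▸ (Nat.gcd_dvd_left _ _).trans (dvd_pow_self q two_ne_zero)
    exact (Nat.dvd_add_right ((Nat.gcd_dvd_right q (u * v)).mul_left 2)).1 h1
  have hqu : q.Coprime u := hq2.coprime_dvd_right (dvd_mul_right u v)
  have hqv : q.Coprime v := hq2.coprime_dvd_right (dvd_mul_left v u)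
  have hv4 : 4 ≤ v := Nat.le_of_dvd (Nat.pos_of_ne_zero hv0) hv
  have hv2 : 2 ∣ v := (show 2 ∣ 4 by norm_num).trans hv
  have hqodd : ¬ 2 ∣ q := fun h => hp2 ((Nat.prime_dvd_prime_iff_eq Nat.prime_two hp.out).1
    (Nat.prime_two.dvd_of_dvd_pow (hq ▸ h))).symm
  have hqu2 : ¬ 2 ∣ q * u := fun h => (Nat.prime_two.dvd_mul.1 h).elim hqodd
    (fun h' => Nat.not_even_iff_odd.2 hu (even_iff_two_dvd.2 h'))
  have n1 : ¬ q ∣ u * v := fun h => by
    have := Nat.Coprime.eq_one_of_dvd hq2 h; omega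
  have n2 : ¬ u ∣ q * v := fun h => by
    have := Nat.Coprime.eq_one_of_dvd ((hqu.symm).mul_right huv) h; omega
  have n3 : ¬ v ∣ 2 * (q * u) := fun h => by
    have := Nat.le_of_dvd two_pos ((hqv.symm.mul_right huv.symm).dvd_of_dvd_mul_right h)
    omega
  have n3' : ¬ v ∣ q * u := fun h => n3 (h.mul_left 2)
  have hne1 : u * v ≠ 1 := by nlinarith
  have hMinB : MinSz G (u * v) := fun g h => by
    rcases hall g with e | e | e | e | e
    · rw [e] at h; exact absurd (Nat.dvd_one.1 h) hne1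
    · exact e
    · rw [e] at h; exact absurd ((Nat.dvd_mul_left v u).trans h) n3'
    · rw [e] at h; exact absurd ((Nat.dvd_mul_left v u).trans h) n3
    · rw [e] at h; exact absurd ((Nat.dvd_mul_right u v).trans h) n2
  have hMaxB : MaxSz G (u * v) := fun g hg h => by
    rcases hall g with e | e | e | e | e
    · exact absurd (sz_eq_one_iff.1 e) hg
    · exact e
    · rw [e] at h; exact absurd ((Nat.dvd_mul_right q u).trans h) n1
    · rw [e] at h; exact absurd (((Nat.dvd_mul_right q u).mul_left 2).trans h) n1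
    · rw [e] at h; exact absurd ((Nat.dvd_mul_right q v).trans h) n1
  have hMinC : MinSz G (q * v) := fun g h => by
    rcases hall g with e | e | e | e | e
    · rw [e] at h; exact absurd ((Nat.dvd_mul_right q v).trans (h.trans (one_dvd (u * v)))) n1
    · rw [e] at h; exact absurd ((Nat.dvd_mul_right q v).trans h) n1
    · rw [e] at h; exact absurd ((Nat.dvd_mul_left v q).trans h) n3'
    · rw [e] at h; exact absurd ((Nat.dvd_mul_left v q).trans h) n3
    · exact e
  have hMaxC : MaxSz G (q * v) := fun g hg h => by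
    rcases hall g with e | e | e | e | e
    · exact absurd (sz_eq_one_iff.1 e) hg
    · rw [e] at h; exact absurd ((Nat.dvd_mul_right u v).trans h) n2
    · rw [e] at h; exact absurd ((Nat.dvd_mul_left u q).trans h) n2
    · rw [e] at h; exact absurd (((Nat.dvd_mul_left u q).mul_left 2).trans h) n2
    · exact e
  have hMaxI : MaxSz G (q * u) := fun g hg h => by
    rcases hall g with e | e | e | e | e
    · exact absurd (sz_eq_one_iff.1 e) hg
    · rw [e] at h; exact absurd ((Nat.dvd_mul_left v u).trans h) n3'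
    · exact e
    · rw [e] at h; exact absurd ((dvd_mul_right 2 _).trans h) hqu2
    · rw [e] at h; exact absurd ((Nat.dvd_mul_left v q).trans h) n3'
  have hquv : q * (u * v) ∣ (center G).index := by
    obtain ⟨g₁, e₁⟩ := hb
    obtain ⟨g₂, e₂⟩ := hc
    exact hq2.mul_dvd_of_dvd_of_dvd ((Nat.dvd_mul_right q v).trans (e₂ ▸ sz_dvd g₂)) (e₁ ▸ sz_dvd g₁)
  obtain ⟨r, hr⟩ := hquv
  have hqi : q * u ≠ 1 := fun h => n1 ((Nat.dvd_mul_right q u).trans (h ▸ one_dvd _))
  have hqc : q * v ≠ 1 := fun h => n1 ((Nat.dvd_mul_right q v).trans (h ▸ one_dvd _))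
  have hpb : p * (u * v) ∣ (center G).index := by
    rw [hr]; exact Dvd.dvd.mul_right (Nat.mul_dvd_mul_right hpq _) r
  have hr2 : ¬ 2 ∣ r := by
    intro h2
    obtain ⟨x, hx, hxs⟩ := exists_size (ℓ := 2) Nat.prime_two hb hne1 hMinB hMaxB (by
      rw [hr, show q * (u * v) * r = (q * r) * (u * v) by ring]
      exact Nat.mul_dvd_mul_right (h2.mul_left q) _)
    obtain ⟨g, hg⟩ := hi
    have hgc : g ∉ center G := fun hc' => hqi (hg ▸ sz_eq_one_iff.2 hc')
    obtain ⟨m, k, hm, hess⟩ := exists_component hgc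
    have hws : sz (g ^ k) = q * u := hMaxI _ hess.1 (hg ▸ sz_dvd_of_le (C_le_C_pow g k))
    obtain ⟨x', hx', hxs', hxc⟩ := exists_conj Nat.prime_two (u := g ^ k) (hws ▸ hqu2) hx
    by_cases hm2 : m = 2
    · subst hm2
      have := same_size Nat.prime_two hp.out (Ne.symm hp2) hess hx' hxc.symm
        (by rw [hxs', hxs]; exact hpb) (by rw [hxs', hxs]; exact hMinB) (by rw [hxs', hxs]; exact hMaxB)
      rw [hws, hxs', hxs] at this
      exact n1 ⟨u, this.symm⟩
    · have h1 := C_le_of_min Nat.prime_two hm (Ne.symm hm2) hx' hess.2 (by rw [hxs', hxs]; exact hMinB) hxc.symm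
      have h2 := sz_dvd_of_le h1
      rw [hws, hxs', hxs] at h2
      exact n1 ((Nat.dvd_mul_right q u).trans h2)
  have hr1 : r = 1 := by
    by_contra hne
    obtain ⟨ℓ, hℓ, hℓr⟩ := Nat.exists_prime_and_dvd hne
    have hℓ2 : ℓ ≠ 2 := fun h => hr2 (h ▸ hℓr)
    obtain ⟨τ, hτ, hτs⟩ := exists_size hℓ hb hne1 hMinB hMaxB (by
      rw [hr, show q * (u * v) * r = (q * r) * (u * v) by ring]
      exact Nat.mul_dvd_mul_right (hℓr.mul_left q) _)
    obtain ⟨σ, hσ, hσs⟩ := exists_size hℓ hc hqc hMinC hMaxC (by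
      rw [hr, show q * (u * v) * r = (u * r) * (q * v) by ring]
      exact Nat.mul_dvd_mul_right (hℓr.mul_left u) _)
    have hbc : u * v ≠ q * v := fun h => n1 ⟨v, h⟩
    by_cases hℓp : ℓ = p
    · subst hℓp
      obtain ⟨σ', hσ', hσs', hσc⟩ := exists_conj hℓ (u := τ) (by
        rw [hτs]; exact fun h => hℓ.not_dvd_one (hq2.gcd_eq_one ▸ Nat.dvd_gcd hpq h)) hσ
      obtain ⟨m, hm, hmu⟩ := Nat.exists_prime_and_dvd (n := u) (by omega)
      have := same_size hℓ hm (fun h => hℓ.not_dvd_one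
          (hqu.gcd_eq_one ▸ Nat.dvd_gcd hpq (h ▸ hmu))) hτ hσ' hσc.symm
        (by rw [hσs', hσs, hr]; exact Dvd.dvd.mul_right ((Nat.mul_dvd_mul_right hmu _).trans
              (dvd_of_eq (by ring))) r)
        (by rw [hσs', hσs]; exact hMinC) (by rw [hσs', hσs]; exact hMaxC)
      rw [hσs', hσs, hτs] at this
      exact hbc this
    have hℓq : ¬ ℓ ∣ q := fun h => hℓp ((Nat.prime_dvd_prime_iff_eq hℓ hp.out).1 (hℓ.dvd_of_dvd_pow (hq ▸ h)))
    by_cases hℓu : ℓ ∣ u
    · obtain ⟨τ', hτ', hτs', hτc⟩ := exists_conj hℓ (u := σ) (by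
        rw [hσs]; exact fun h => (hℓ.dvd_mul.1 h).elim hℓq fun h' => hℓ.not_dvd_one
          (huv.gcd_eq_one ▸ Nat.dvd_gcd hℓu h')) hτ
      have := same_size hℓ hp.out hℓp hσ hτ' hτc.symm (by rw [hτs', hτs]; exact hpb)
        (by rw [hτs', hτs]; exact hMinB) (by rw [hτs', hτs]; exact hMaxB)
      rw [hσs, hτs', hτs] at this
      exact hbc this.symm
    obtain ⟨t, ht, -⟩ := exists_ess (ℓ := 2) Nat.prime_two (g := (1 : G)) (by
      rw [sz_eq_one_iff.2 (one_mem _), mul_one, hr]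
      exact Dvd.dvd.mul_right (Dvd.dvd.mul_left (hv2.mul_left u) q) r)
    have hts : ¬ ℓ ∣ sz t := by
      have hd : 2 * sz t ∣ (center G).index := ht.dvd_self Nat.prime_two
      rcases hall t with e | e | e | e | e
      · exact absurd (sz_eq_one_iff.1 e) ht.1
      · exfalso
        rw [e, hr, show q * (u * v) * r = (q * r) * (u * v) by ring] at hd
        exact (Nat.prime_two.dvd_mul.1 (Nat.dvd_of_mul_dvd_mul_right (by positivity) hd)).elim hqodd hr2
      · rw [e]; exact fun h => (hℓ.dvd_mul.1 h).elim hℓq hℓu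
      · rw [e]; exact fun h => (hℓ.dvd_mul.1 h).elim
          (fun h' => hℓ2 ((Nat.prime_dvd_prime_iff_eq hℓ Nat.prime_two).1 h'))
          fun h' => (hℓ.dvd_mul.1 h').elim hℓq hℓu
      · exfalso
        rw [e, hr, show q * (u * v) * r = (u * r) * (q * v) by ring] at hd
        exact (Nat.prime_two.dvd_mul.1 (Nat.dvd_of_mul_dvd_mul_right (by positivity) hd)).elim
          (fun h => Nat.not_even_iff_odd.2 hu (even_iff_two_dvd.2 h)) hr2
    obtain ⟨τ', hτ', hτs', hτc⟩ := exists_conj hℓ hts hτ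
    have h1 := C_le_of_min hℓ Nat.prime_two hℓ2 hτ' ht.2 (by rw [hτs', hτs]; exact hMinB) hτc.symm
    have h2 := hMaxB t ht.1 (hτs ▸ hτs' ▸ sz_dvd_of_le h1)
    have hd : 2 * sz t ∣ (center G).index := ht.dvd_self Nat.prime_two
    rw [h2, hr, show q * (u * v) * r = (q * r) * (u * v) by ring] at hd
    exact (Nat.prime_two.dvd_mul.1 (Nat.dvd_of_mul_dvd_mul_right (by positivity) hd)).elim hqodd hr2
  rw [hr1, mul_one] at hr
  refine ⟨⟨⟨f, hf, hq⟩, hr, huv1, Or.inr ⟨rfl, hp2⟩, by omega, ?_, ?_⟩, hMaxI⟩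
  · intro g hg
    have hd : p * sz g ∣ (center G).index := hg.dvd_self hp.out
    have key : ∀ w : ℕ, sz g = q * w → False := fun w e => by
      rw [e, hr, show p * (q * w) = q * (p * w) by ring] at hd
      have h1 := Nat.dvd_of_mul_dvd_mul_left (by omega) hd
      exact hp.out.not_dvd_one (hq2.gcd_eq_one ▸ Nat.dvd_gcd hpq ((dvd_mul_right p w).trans h1))
    rcases hall g with e | e | e | e | e
    · exact absurd (sz_eq_one_iff.1 e) hg.1
    · exact e
    · exact (key _ e).elim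
    · exact (key (2 * u) (by rw [e]; ring)).elim
    · exact (key _ e).elim
  · intro ℓ k g hℓ hgs
    rcases hall g with e | e | e | e | e
    · exact absurd ((Nat.dvd_mul_right q (ℓ ^ k)).trans (hgs ▸ e ▸ one_dvd (u * v))) n1
    · exact absurd ⟨ℓ ^ k, e ▸ hgs⟩ n1
    · rw [e] at hgs
      exact not_pow_succ_dvd hℓ (by omega) huv (Nat.eq_of_mul_eq_mul_left (by omega) hgs)
    · exfalso
      rw [e, show 2 * (q * u) = q * (2 * u) by ring] at hgs
      have h1 := Nat.eq_of_mul_eq_mul_left (by omega : 0 < q) hgs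
      have hℓ2 : 2 = ℓ := (Nat.prime_dvd_prime_iff_eq Nat.prime_two hℓ).1
        (Nat.prime_two.dvd_of_dvd_pow (h1 ▸ dvd_mul_right 2 u))
      subst hℓ2
      rcases k with _ | _ | k
      · simp at h1
      · simp at h1; omega
      · have h2 : u = 2 * 2 ^ k := by rw [pow_succ, pow_succ] at h1; omega
        exact Nat.not_even_iff_odd.2 hu ⟨2 ^ k, by omega⟩
    · rw [e] at hgs
      rw [mul_comm u]
      exact not_pow_succ_dvd hℓ (by omega) huv.symm (Nat.eq_of_mul_eq_mul_left (by omega) hgs)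

end Cfsg.Agent.CS64
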