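import Cfsg.Agent.CS64.Cases
import Cfsg.Agent.KnownSimple.Multiplier.Sylow
import Cfsg.Agent.KnownSimple58.PSLTwoClasses
import Cfsg.Agent.Lib.LinearGroup.TorusSylow

/-!
Groups with the class sizes of `PSL₂(q)` split over their centre (helper64).
-/

set_option autoImplicit false

namespace Cfsg.Agent.CS64

open Subgroup
open scoped commutatorElement

universe u v

/-- Preimages of a dihedral subgroup: the derived group avoids the kernel if the middle lift commutes. -/
theorem inf_commutator_eq_bot_of_dihedral {Γ : Type u} [Group Γ] {G : Type v} [Group G] [Finite Γ]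
    (σ : Γ →* G) (hc : σ.ker ≤ center Γ) (hσ : Function.Surjective σ) (S : Subgroup G) {c x : G} (h : ℕ)
    (hord : orderOf c = 2 * h) (hxc : x * c * x⁻¹ = c⁻¹)
    (hgen : ∀ g ∈ S, g ∈ zpowers c ∨ x⁻¹ * g ∈ zpowers c)
    (hcomm : ∀ t u : Γ, σ t = c → σ u = x → u * t ^ h * u⁻¹ = t ^ h) :
    σ.ker ⊓ ⁅S.comap σ, S.comap σ⁆ = ⊥ := by
  obtain ⟨t, rfl⟩ := hσ c
  obtain ⟨u, rfl⟩ := hσ x
  set z₀ := t * (u * t * u⁻¹) with hz₀
  have hz₀k : z₀ ∈ σ.ker := by
    rw [MonoidHom.mem_ker, hz₀, map_mul, map_mul, map_mul, map_inv, hxc, mul_inv_cancel]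
  have hz₀c := Subgroup.mem_center_iff.1 (hc hz₀k)
  have hutu : u * t * u⁻¹ = t⁻¹ * z₀ := by rw [hz₀]; group
  clear_value z₀
  set w := ⁅u, t⁆ with hw
  have hw' : w = t⁻¹ * t⁻¹ * z₀ := by
    rw [hw, commutatorElement_def, hutu, mul_assoc, ← hz₀c t⁻¹, ← mul_assoc]
  have hwt : Commute w t := by
    rw [hw']
    exact ((Commute.refl t).inv_left.mul_left (Commute.refl t).inv_left).mul_left
      (Commute.symm (hz₀c t))
  have hwu : u * w * u⁻¹ = w⁻¹ := by
    have hzu : u * z₀ * u⁻¹ = z₀ := by rw [hz₀c u, mul_inv_cancel_right]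
    have hzt : z₀⁻¹ * t = t * z₀⁻¹ := (Subgroup.mem_center_iff.1 (inv_mem (hc hz₀k)) t).symm
    calc u * w * u⁻¹ = (u * t * u⁻¹)⁻¹ * (u * t * u⁻¹)⁻¹ * (u * z₀ * u⁻¹) := by rw [hw']; group
      _ = (z₀⁻¹ * t) * (z₀⁻¹ * t) * z₀ := by rw [hzu, hutu]; group
      _ = (z₀⁻¹ * t) * (t * z₀⁻¹) * z₀ := by rw [hzt]
      _ = z₀⁻¹ * (t * t) := by group
      _ = w⁻¹ := by rw [hw', _root_.mul_inv_rev, _root_.mul_inv_rev, inv_inv]
  have hnorm : ∀ g : Γ, σ g ∈ S → ∃ (i : ℤ) (e : ℤ) (z : Γ),
      z ∈ center Γ ∧ (e = 0 ∨ e = 1) ∧ g = u ^ e * t ^ i * z := by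
    intro g hg
    rcases hgen _ hg with ⟨i, hi⟩ | ⟨i, hi⟩
    · refine ⟨i, 0, (t ^ i)⁻¹ * g, hc ?_, Or.inl rfl, by group⟩
      simp only at hi
      simp [MonoidHom.mem_ker, hi]
    · refine ⟨i, 1, (t ^ i)⁻¹ * u⁻¹ * g, hc ?_, Or.inr rfl, by group⟩
      simp only at hi
      simp [MonoidHom.mem_ker, hi, mul_assoc]
  have hle : ⁅S.comap σ, S.comap σ⁆ ≤ zpowers w := by
    rw [Subgroup.commutator_le]
    intro g hg g' hg'
    obtain ⟨i, e, z, hz, he, rfl⟩ := hnorm g hg
    obtain ⟨j, e', z', hz', he', rfl⟩ := hnorm g' hg'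
    rw [Cfsg.Agent.Schur.commutatorElement_mul_central hz hz']
    have hti : ∀ k : ℤ, ⁅u, t ^ k⁆ ∈ zpowers w := by
      intro k
      refine ⟨k, ?_⟩
      have h1 : u * t ^ k * u⁻¹ = (w * t) ^ k := by
        rw [← conj_zpow, hw, commutatorElement_def]; group
      show w ^ k = _
      rw [commutatorElement_def, h1, hwt.mul_zpow, mul_inv_cancel_right]
    have htw : ∀ (k : ℤ) (v : Γ), v ∈ zpowers w → t ^ k * v * (t ^ k)⁻¹ = v := by
      rintro k v ⟨m, rfl⟩
      show t ^ k * w ^ m * (t ^ k)⁻¹ = w ^ m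
      rw [(hwt.symm.zpow_zpow k m).eq, mul_inv_cancel_right]
    have huw : ∀ v : Γ, v ∈ zpowers w → u * v * u⁻¹ ∈ zpowers w := by
      rintro v ⟨m, rfl⟩
      show u * w ^ m * u⁻¹ ∈ zpowers w
      rw [← conj_zpow, hwu]
      exact zpow_mem (inv_mem (mem_zpowers w)) m
    rcases he with rfl | rfl <;> rcases he' with rfl | rfl
    · simp only [zpow_zero, one_mul]
      rw [commutatorElement_eq_one_iff_mul_comm.2 ((Commute.refl t).zpow_zpow i j).eq]
      exact one_mem _
    · simp only [zpow_zero, one_mul, zpow_one]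
      have e1 : ⁅t ^ i, u * t ^ j⁆ = ⁅t ^ i, u⁆ := by
        simp only [commutatorElement_def, mul_inv_rev]
        rw [show t ^ i * (u * t ^ j) * (t ^ i)⁻¹ * ((t ^ j)⁻¹ * u⁻¹)
          = t ^ i * u * (t ^ j * (t ^ i)⁻¹ * (t ^ j)⁻¹) * u⁻¹ by group]
        rw [((Commute.refl t).zpow_zpow j i).inv_right.eq]
        group
      rw [e1, ← commutatorElement_inv]
      exact inv_mem (hti i)
    · simp only [zpow_zero, one_mul, zpow_one]
      have e1 : ⁅u * t ^ i, t ^ j⁆ = ⁅u, t ^ j⁆ := by
        simp only [commutatorElement_def, mul_inv_rev]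
        rw [show u * t ^ i * t ^ j * ((t ^ i)⁻¹ * u⁻¹) * (t ^ j)⁻¹
          = u * (t ^ i * t ^ j * (t ^ i)⁻¹) * u⁻¹ * (t ^ j)⁻¹ by group]
        rw [((Commute.refl t).zpow_zpow i j).eq, mul_inv_cancel_right]
      rw [e1]; exact hti j
    · simp only [zpow_one]
      have e1 : ⁅u * t ^ i, u * t ^ j⁆ = u * ((t ^ i) * ⁅u, t ^ (j - i)⁆ * (t ^ i)⁻¹) * u⁻¹ := by
        simp only [commutatorElement_def, mul_inv_rev, zpow_sub]
        group
      rw [e1, htw i _ (hti _)]
      exact huw _ (hti _)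
  have hwh : w ^ h = 1 := by
    have h1 : u * t ^ h * u⁻¹ = w ^ h * t ^ h := by
      rw [← conj_pow, ← hwt.mul_pow, hw, commutatorElement_def]; group
    exact mul_right_cancel (b := t ^ h) (by rw [one_mul]; exact h1.symm.trans (hcomm t u rfl rfl))
  rw [eq_bot_iff]
  rintro z ⟨hz, hz'⟩
  obtain ⟨n, rfl⟩ := hle hz'
  have hσw : σ w = (σ t) ^ (-2 : ℤ) := by
    rw [hw, map_commutatorElement, commutatorElement_def, hxc]; group
  have hn : σ (w ^ n) = 1 := hz
  rw [map_zpow, hσw, ← zpow_mul] at hn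
  have hdvd := orderOf_dvd_iff_zpow_eq_one.2 hn
  rw [hord] at hdvd
  obtain ⟨k, hk⟩ := hdvd
  have hnk : n = (h : ℤ) * (-k) := by push_cast at hk; linarith
  rw [Subgroup.mem_bot]
  show w ^ n = 1
  rw [hnk, zpow_mul, zpow_natCast, hwh, one_zpow]

section PSL

variable {F : Type v} [Field F] [Fintype F]

local notation "SL2" => Matrix.SpecialLinearGroup (Fin 2) F
local notation "PSL2" => Matrix.ProjectiveSpecialLinearGroup (Fin 2) F

open Cfsg.Agent in
/-- In `PSL₂(q)`, `q` odd, the elements with odd class size are involutions. -/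
theorem psl_sq_eq_one (hodd : ¬ 2 ∣ Fintype.card F) (x : PSL2)
    (hx : ¬ 2 ∣ (Subgroup.centralizer ({x} : Set PSL2)).index) :
    x ^ 2 = 1 ∨ (Subgroup.centralizer ({x} : Set PSL2)).index = 1 := by
  classical
  open KS58 SL2Tor in
  obtain ⟨A, rfl⟩ := QuotientGroup.mk_surjective x
  have h20 : (2 : F) ≠ 0 := fun h => by
    have := FiniteField.even_card_iff_char_two.mp (CharP.ringChar_of_prime_eq_zero Nat.prime_two h)
    omega
  open KS58 SL2Tor in
  rcases index_psl_cases A with h | ⟨hs, h⟩ | ⟨h, hN⟩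
  · exact Or.inr h
  · exfalso
    have e := index_psl_parabolic A hs h
    rw [card_sq_eq_one_odd h20] at e
    apply hx
    obtain ⟨t, ht⟩ : ∃ t, Fintype.card F = 2 * t + 1 := ⟨Fintype.card F / 2, by omega⟩
    obtain ⟨w, hw⟩ := Nat.two_dvd_mul_add_one t
    refine ⟨2 * w, ?_⟩
    have : Fintype.card F ^ 2 - 1 = 8 * w := by
      rw [ht, show (2 * t + 1) ^ 2 = 4 * (t * (t + 1)) + 1 by ring, hw]; omega
    omega
  · by_cases h0 : (A : Matrix (Fin 2) (Fin 2) F).trace = 0
    · left
      have e : A * A = -1 := by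
        apply Subtype.ext
        have hd := A.2
        rw [Matrix.trace_fin_two] at h0
        rw [Matrix.det_fin_two] at hd
        have h11 : (A : Matrix (Fin 2) (Fin 2) F) 1 1 = -(A : Matrix (Fin 2) (Fin 2) F) 0 0 := by
          linear_combination h0
        rw [h11] at hd
        ext i j
        fin_cases i <;> fin_cases j <;> simp [Matrix.mul_apply, Fin.sum_univ_two, h11] <;>
          first | linear_combination (0 : F) * hd | linear_combination (1 : F) * hd | linear_combination (-1 : F) * hd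
      rw [sq, ← QuotientGroup.mk_mul, e]
      exact (psl_mk_neg (1 : SL2)).trans rfl
    · exfalso
      rw [index_psl_of_trace_ne_zero A (Or.inl fun e => h0 ((mul_eq_zero.mp (show (2 : F) * _ = 0 by
        linear_combination e)).resolve_left h20)), index_sl_semisimple A h] at hx
      apply hx
      refine dvd_add (dvd_mul_of_dvd_right ?_ _) ?_
      · omega
      · rcases hN with e | e <;> rw [e] <;> simp

end PSL

variable {G : Type u} [Group G] [Finite G] {p q d M : ℕ} [hp : Fact p.Prime]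
variable {F : Type} [Field F] [Fintype F]

theorem SizeData.ker_le (_h : SizeData G p q d M) :
    (QuotientGroup.mk' (center G)).ker ≤ center G := (QuotientGroup.ker_mk' _).le

-- The derived group meets the centre trivially.
set_option maxHeartbeats 1000000 in
theorem SizeData.inf_eq_bot (h : SizeData G p q d M) (hF : Fintype.card F = q)
    (e : G ⧸ center G ≃* Matrix.ProjectiveSpecialLinearGroup (Fin 2) F)
    (hinv : d = 2 → ∃ g : G, g ∉ center G ∧ ¬ 2 ∣ sz g ∧ MaxSz G (sz g)) :
    commutator G ⊓ center G = ⊥ := by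
  classical
  set σ := QuotientGroup.mk' (center G) with hσ
  have hker : σ.ker = center G := QuotientGroup.ker_mk' _
  have hsur : Function.Surjective σ := QuotientGroup.mk'_surjective _
  set f : Matrix.SpecialLinearGroup (Fin 2) F →* G ⧸ center G :=
    e.symm.toMonoidHom.comp (QuotientGroup.mk' _) with hf
  have hfs : Function.Surjective f := e.symm.surjective.comp (QuotientGroup.mk'_surjective _)
  obtain ⟨f₀, hf₀, hq⟩ := h.qpow
  have hlocal : ∀ ℓ : ℕ, ℓ.Prime → ∃ S : Subgroup (G ⧸ center G), ¬ ℓ ∣ S.index ∧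
      σ.ker ⊓ ⁅S.comap σ, S.comap σ⁆ = ⊥ := by
    intro ℓ hℓ
    haveI := Fact.mk hℓ
    by_cases hℓp : ℓ = p
    · subst hℓp
      obtain ⟨P⟩ := Sylow.nonempty (p := ℓ) (G := G ⧸ center G)
      refine ⟨P, P.not_dvd_index, KnownSimple.inf_commutator_eq_bot_of_comm σ _ fun x hx y hy => ?_⟩
      rw [commutatorElement_eq_one_iff_mul_comm]
      by_cases hx1 : σ x = 1
      · have : x ∈ center G := hker ▸ MonoidHom.mem_ker.2 hx1
        exact ((Subgroup.mem_center_iff.1 this y)).symm
      · obtain ⟨k, hk⟩ := h.numerics.pel_of_mem hx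
        obtain ⟨j, -, hj⟩ := (Nat.dvd_prime_pow hℓ).1 (orderOf_dvd_of_pow_eq_one hk)
        have hj0 : j ≠ 0 := fun h0 => hx1 (orderOf_eq_one_iff.1 (by rw [hj, h0, pow_zero]))
        set m := ordCompl[ℓ] (orderOf x) with hm
        have hess : Ess ℓ (x ^ m) := ess_pow_of_dvd hℓ (g := x) (by
          show ℓ ∣ orderOf (σ x)
          rw [hj]; exact dvd_pow_self ℓ hj0)
        obtain ⟨s, hs⟩ := exists_pow_eq_self_of_coprime (x := σ x) (n := m) (by
          rw [hj]; exact ((Nat.coprime_ordCompl hℓ (orderOf_pos x).ne').pow_left j).symm)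
        have hyc : σ y ∈ centralizer ({(QuotientGroup.mk (x ^ m) : G ⧸ center G)} : Set (G ⧸ center G)) :=
          mem_C.2 (((h.numerics.commute_of_mem (σ y) hy (σ x) hx).pow_right m))
        rw [(h.map_eq hess).1] at hyc
        obtain ⟨c, hc, hcy⟩ := hyc
        have hz : c⁻¹ * y ∈ center G := by
          rw [← hker, MonoidHom.mem_ker, map_mul, map_inv, hcy, inv_mul_cancel]
        have hy' : Commute y (x ^ m) := by
          rw [show y = c * (c⁻¹ * y) by group]
          exact (mem_C.1 hc).mul_left ((Subgroup.mem_center_iff.1 hz _).symm)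
        have hz2 : ((x ^ m) ^ s)⁻¹ * x ∈ center G := by
          rw [← hker, MonoidHom.mem_ker, map_mul, map_inv, map_pow, map_pow, hs, inv_mul_cancel]
        have : Commute y x := by
          rw [show x = (x ^ m) ^ s * (((x ^ m) ^ s)⁻¹ * x) by group]
          exact (hy'.pow_right s).mul_right (Subgroup.mem_center_iff.1 hz2 y)
        exact this.symm.eq
    by_cases hℓ2 : ℓ = 2
    swap
    · obtain ⟨R⟩ := Sylow.nonempty (p := ℓ) (G := Matrix.SpecialLinearGroup (Fin 2) F)
      haveI := LinearGroup.isCyclic_sylow_SL_two hℓ2 (by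
        rw [Nat.card_eq_fintype_card, hF, hq]
        exact fun hd => hℓp ((Nat.prime_dvd_prime_iff_eq hℓ hp.out).1 (hℓ.dvd_of_dvd_pow hd))) R
      refine ⟨(R : Subgroup (Matrix.SpecialLinearGroup (Fin 2) F)).map f, fun hd => R.not_dvd_index (hd.trans (Subgroup.index_map_dvd (H := (R : Subgroup (Matrix.SpecialLinearGroup (Fin 2) F))) hfs)), ?_⟩
      haveI : IsCyclic ((R : Subgroup (Matrix.SpecialLinearGroup (Fin 2) F)).map f) :=
        isCyclic_of_surjective (f.subgroupMap (R : Subgroup (Matrix.SpecialLinearGroup (Fin 2) F))) (f.subgroupMap_surjective _)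
      exact KnownSimple.inf_commutator_eq_bot_of_comm σ _ fun x hx y hy =>
        KnownSimple.comm_of_cyclic σ hker.le _ hsur hx hy
    subst hℓ2
    obtain ⟨hd, hp2⟩ : d = 2 ∧ p ≠ 2 := by
      rcases h.hd with ⟨-, e'⟩ | e'
      · exact absurd e'.symm hℓp
      · exact e'
    have hqodd : ¬ 2 ∣ Fintype.card F := by
      rw [hF, hq]
      exact fun hd' => hℓp ((Nat.prime_dvd_prime_iff_eq Nat.prime_two hp.out).1 (Nat.prime_two.dvd_of_dvd_pow hd'))
    have h2F : (2 : F) ≠ 0 := fun h => by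
      have := FiniteField.even_card_iff_char_two.mp (CharP.ringChar_of_prime_eq_zero Nat.prime_two h)
      omega
    -- an element with odd class size and 2-power order
    obtain ⟨g, hgc, hgs, hgmax⟩ := hinv hd
    obtain ⟨m, k, hm, hess⟩ := exists_component hgc
    have hts : sz (g ^ k) = sz g := hgmax _ hess.1 (sz_dvd_of_le (C_le_C_pow g k))
    set t₀ := g ^ k with ht₀
    have hm2 : m = 2 := by
      by_contra hne
      obtain ⟨j, hj⟩ := hess.2
      set x : G ⧸ center G := QuotientGroup.mk t₀ with hx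
      have hx1 : x ≠ 1 := fun e' => hess.1 ((QuotientGroup.eq_one_iff t₀).1 e')
      have hord : orderOf x ∣ m ^ j :=
        orderOf_dvd_of_pow_eq_one (by rw [hx, ← QuotientGroup.mk_pow, hj]; rfl)
      have hidx : ¬ 2 ∣ (centralizer ({x} : Set (G ⧸ center G))).index := by
        obtain ⟨i, hi, -⟩ := index_mk hm hess
        intro h2
        exact hgs (hts ▸ hi ▸ h2.mul_right _)
      have hce : centralizer ({e x} : Set (Matrix.ProjectiveSpecialLinearGroup (Fin 2) F)) =
          (centralizer ({x} : Set (G ⧸ center G))).map e.toMonoidHom := by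
        ext y
        rw [Subgroup.mem_map_equiv, mem_C, mem_C]
        exact ⟨fun h' => by simpa using h'.map e.symm, fun h' => by simpa using h'.map e⟩
      have hie : (centralizer ({e x} : Set _)).index = (centralizer ({x} : Set (G ⧸ center G))).index := by
        rw [hce]; exact index_map_equiv _ e
      rcases psl_sq_eq_one hqodd (e x) (hie ▸ hidx) with h2 | h1
      · have : x ^ 2 = 1 := e.injective (by rw [map_pow, h2, map_one])
        refine hx1 (orderOf_eq_one_iff.1 (Nat.eq_one_of_dvd_coprimes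
          (((Nat.coprime_primes Nat.prime_two hm).2 (Ne.symm hne)).pow_right j)
          (orderOf_dvd_of_pow_eq_one this) hord))
      · rw [hie, Subgroup.index_eq_one] at h1
        obtain ⟨P⟩ := Sylow.nonempty (p := p) (G := G ⧸ center G)
        haveI : Nontrivial (P : Subgroup (G ⧸ center G)) := by
          rw [← Finite.one_lt_card_iff_nontrivial, h.numerics.card_sylow P]
          have := h.lt; omega
        obtain ⟨⟨w, hwP⟩, hw⟩ := exists_ne (1 : (P : Subgroup (G ⧸ center G)))
        have hcard := h.numerics.cent w (fun e' => hw (Subtype.ext e')) (h.numerics.pel_of_mem hwP)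
        have hmem : x ∈ centralizer ({w} : Set (G ⧸ center G)) :=
          mem_C.2 (mem_C.1 (h1.symm ▸ Subgroup.mem_top w)).symm
        have h3 : orderOf x ∣ q := hcard ▸ Subgroup.orderOf_dvd_natCard _ hmem
        have hcard2 := h.numerics.cent x hx1 ⟨f₀, by rw [← hq]; exact orderOf_dvd_iff_pow_eq_one.1 h3⟩
        rw [h1, Subgroup.card_top, h.numerics.card] at hcard2
        have hM : M = 1 := Nat.eq_of_mul_eq_mul_left (by have := h.lt; omega) (hcard2.trans (mul_one q).symm)
        have := h.dM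
        rw [hM] at this
        have hlt := h.lt
        nlinarith
    subst hm2
    obtain ⟨T⟩ := Sylow.nonempty (p := 2) (G := centralizer ({t₀} : Set G))
    let T' : Sylow 2 G := (T.2.map (centralizer ({t₀} : Set G)).subtype).toSylow (by
      rw [Subgroup.index_map_subtype]
      exact fun hd' => (Nat.prime_two.dvd_mul.1 hd').elim T.not_dvd_index (fun h' => hgs (hts ▸ h')))
    have ht₀T : t₀ ∈ (T' : Subgroup G) := by
      have hpz : IsPGroup 2 (zpowers t₀) := by
        obtain ⟨j, hj⟩ := hess.2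
        rintro ⟨z, i, rfl⟩
        refine ⟨j, Subtype.ext ?_⟩
        show (t₀ ^ i) ^ 2 ^ j = 1
        rw [← zpow_natCast, ← zpow_mul, mul_comm, zpow_mul, zpow_natCast, hj, one_zpow]
      have hn : zpowers t₀ ≤ normalizer ((T' : Subgroup G) : Set G) := by
        refine zpowers_le.2 (centralizer_le_normalizer _ ?_)
        rw [Subgroup.mem_centralizer_iff]
        intro y hy
        exact mem_C.1 (Subgroup.map_subtype_le _ hy)
      exact T'.3 (hpz.to_sup_of_normal_right' T'.2 hn) le_sup_right ▸ Subgroup.mem_sup_left (mem_zpowers t₀)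
    -- a Sylow subgroup of the quotient with quaternion preimage
    obtain ⟨R⟩ := Sylow.nonempty (p := 2) (G := Matrix.SpecialLinearGroup (Fin 2) F)
    obtain ⟨k₀, hk₀, ⟨φ⟩⟩ := LinearGroup.quaternion_sylow_SL_two
      (by rw [Nat.card_eq_fintype_card]; exact Nat.not_even_iff_odd.1 (fun h' => hqodd h'.two_dvd)) R
    let S : Sylow 2 (G ⧸ center G) := R.mapSurjective hfs
    obtain ⟨x₀, hx₀⟩ := MulAction.exists_smul_eq (G ⧸ center G) (T'.mapSurjective hsur) S
    obtain ⟨y₀, rfl⟩ := hsur x₀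
    set t₁ := y₀ * t₀ * y₀⁻¹ with ht₁
    have hmemS : ∀ y : G ⧸ center G, y ∈ (S : Subgroup (G ⧸ center G)) ↔
        ∃ w ∈ (T' : Subgroup G), y = σ (y₀ * w * y₀⁻¹) := by
      intro y
      rw [← hx₀, Sylow.smul_def, Sylow.pointwise_smul_def, Subgroup.mem_pointwise_smul_iff_inv_smul_mem,
        MulAut.smul_def, ← MulAut.conj.map_inv, MulAut.conj_apply, inv_inv, Sylow.coe_mapSurjective,
        Subgroup.mem_map]
      constructor
      · rintro ⟨w, hw, he⟩
        refine ⟨w, hw, ?_⟩
        rw [map_mul, map_mul, map_inv, he]; group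
      · rintro ⟨w, hw, rfl⟩
        refine ⟨w, hw, ?_⟩
        rw [map_mul, map_mul, map_inv]; group
    have ht₁S : σ t₁ ∈ (S : Subgroup (G ⧸ center G)) := (hmemS _).2 ⟨t₀, ht₀T, rfl⟩
    have ht₁z : σ t₁ ≠ 1 := fun e' => (hess.conj y₀).1 (hker ▸ MonoidHom.mem_ker.2 e')
    have ht₁c : ∀ y ∈ (S : Subgroup (G ⧸ center G)).comap σ, Commute t₁ y := by
      intro y hy
      obtain ⟨w, hw, he⟩ := (hmemS _).1 hy
      have hz : (y₀ * w * y₀⁻¹)⁻¹ * y ∈ center G := by
        rw [← hker, MonoidHom.mem_ker, map_mul, map_inv, ← he, inv_mul_cancel]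
      rw [show y = (y₀ * w * y₀⁻¹) * ((y₀ * w * y₀⁻¹)⁻¹ * y) by group]
      refine Commute.mul_right ?_ (Subgroup.mem_center_iff.1 hz t₁)
      exact ((Commute.conj_iff y₀).2 (mem_C.1 (Subgroup.map_subtype_le _ hw)).symm)
    -- dihedral generators
    set n := 2 ^ k₀ with hn
    haveI : NeZero n := ⟨by positivity⟩
    let ψ : QuaternionGroup n →* Matrix.SpecialLinearGroup (Fin 2) F :=
      (R : Subgroup (Matrix.SpecialLinearGroup (Fin 2) F)).subtype.comp φ.symm.toMonoidHom
    have hψ : Function.Injective ψ := Subtype.val_injective.comp φ.symm.injective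
    set c := f (ψ (QuaternionGroup.a 1)) with hc
    set x := f (ψ (QuaternionGroup.xa 0)) with hx
    have hfker : ∀ A, f A = 1 ↔ A ∈ center (Matrix.SpecialLinearGroup (Fin 2) F) := fun A => by
      show e.symm (QuotientGroup.mk A) = 1 ↔ _
      rw [MulEquiv.map_eq_one_iff, QuotientGroup.eq_one_iff]
    have hax : QuaternionGroup.xa (0 : ZMod (2 * n)) * QuaternionGroup.a 1 *
        (QuaternionGroup.xa (0 : ZMod (2 * n)))⁻¹ = (QuaternionGroup.a 1)⁻¹ := by
      rw [mul_inv_eq_iff_eq_mul]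
      show QuaternionGroup.xa ((0 : ZMod (2 * n)) + 1) = QuaternionGroup.a (-1) * QuaternionGroup.xa 0
      rw [QuaternionGroup.a_mul_xa]; congr 1; ring
    have hpow : ∀ i : ℕ, (ψ (QuaternionGroup.a 1)) ^ i = ψ (QuaternionGroup.a (i : ZMod (2 * n))) := fun i => by
      rw [← map_pow, QuaternionGroup.a_one_pow]
    have hc_iff : ∀ i : ℕ, c ^ i = 1 ↔ n ∣ i := by
      intro i
      rw [hc, ← map_pow, hfker, hpow]
      constructor
      · intro hi
        have h1 := Subgroup.mem_center_iff.1 hi (ψ (QuaternionGroup.xa 0))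
        rw [← map_mul, ← map_mul] at h1
        have h2 := hψ h1
        rw [QuaternionGroup.xa_mul_a, QuaternionGroup.a_mul_xa, QuaternionGroup.xa.injEq] at h2
        have h3 : ((2 * i : ℕ) : ZMod (2 * n)) = 0 := by push_cast; linear_combination h2
        rw [ZMod.natCast_eq_zero_iff] at h3
        exact Nat.dvd_of_mul_dvd_mul_left two_pos h3
      · rintro ⟨j, rfl⟩
        have hA : ψ (QuaternionGroup.a (n : ZMod (2 * n))) ∈ center (Matrix.SpecialLinearGroup (Fin 2) F) := by
          have h1 : ψ (QuaternionGroup.a (n : ZMod (2 * n))) * ψ (QuaternionGroup.a (n : ZMod (2 * n))) = 1 := by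
            rw [← map_mul, QuaternionGroup.a_mul_a, ← Nat.cast_add, ← two_mul, ZMod.natCast_self]
            exact map_one ψ
          have h2 : ψ (QuaternionGroup.a (n : ZMod (2 * n))) ≠ 1 := fun e' => by
            have h3 := hψ (e'.trans (map_one ψ).symm)
            rw [QuaternionGroup.one_def, QuaternionGroup.a.injEq, ZMod.natCast_eq_zero_iff] at h3
            have := Nat.le_of_dvd (Nat.two_pow_pos k₀) h3
            have := Nat.two_pow_pos k₀
            omega
          have h4 := LinearGroup.eq_neg_one_of_sq_eq_one h2F _ h1 h2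
          refine Subgroup.mem_center_iff.2 fun B => Subtype.ext ?_
          rw [Matrix.SpecialLinearGroup.coe_mul, Matrix.SpecialLinearGroup.coe_mul, h4]
          simp
        have : ψ (QuaternionGroup.a ((n * j : ℕ) : ZMod (2 * n))) =
            ψ (QuaternionGroup.a (n : ZMod (2 * n))) ^ j := by
          rw [← hpow, ← hpow, pow_mul]
        rw [this]; exact pow_mem hA j
    have hord : orderOf c = n := Nat.dvd_antisymm (orderOf_dvd_of_pow_eq_one ((hc_iff n).2 dvd_rfl))
      ((hc_iff _).1 (pow_orderOf_eq_one c))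
    have hxc : x * c * x⁻¹ = c⁻¹ := by
      simpa only [hc, hx, map_mul, map_inv] using congrArg (fun w => f (ψ w)) hax
    obtain ⟨k₁, rfl⟩ : ∃ k₁, k₀ = k₁ + 1 := ⟨k₀ - 1, by omega⟩
    have hn2 : n = 2 * 2 ^ k₁ := by rw [hn, pow_succ]; ring
    set hh := 2 ^ k₁ with hhh
    have hgen : ∀ g ∈ (S : Subgroup (G ⧸ center G)), g ∈ zpowers c ∨ x⁻¹ * g ∈ zpowers c := by
      intro g hg
      have hg' : g ∈ (R : Subgroup (Matrix.SpecialLinearGroup (Fin 2) F)).map f := by rwa [← Sylow.coe_mapSurjective]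
      obtain ⟨A, hA, rfl⟩ := hg'
      obtain ⟨w, hw⟩ := φ.symm.surjective ⟨A, hA⟩
      have hAw : A = ψ w := (congrArg Subtype.val hw).symm
      have hmem : ∀ i : ZMod (2 * n), f (ψ (QuaternionGroup.a i)) ∈ zpowers c := fun i => by
        rw [← ZMod.natCast_zmod_val i, ← hpow, map_pow]; exact pow_mem (mem_zpowers c) _
      rcases w with i | i
      · exact Or.inl (hAw ▸ hmem i)
      · refine Or.inr ?_
        rw [hAw, hx, ← map_inv, ← map_mul, ← map_inv, ← map_mul]
        have e' : (QuaternionGroup.xa (0 : ZMod (2 * n)))⁻¹ * QuaternionGroup.xa i = QuaternionGroup.a i := by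
          rw [inv_mul_eq_iff_eq_mul, QuaternionGroup.xa_mul_a, zero_add]
        rw [e']; exact hmem i
    refine ⟨S, S.not_dvd_index, inf_commutator_eq_bot_of_dihedral σ hker.le hsur S hh
      (by rw [hord, hn2]) hxc hgen ?_⟩
    intro t u ht hu
    have htS : t ∈ (S : Subgroup (G ⧸ center G)).comap σ := by
      rw [Subgroup.mem_comap, ht]
      exact ⟨ψ (QuaternionGroup.a 1), (φ.symm _).2, rfl⟩
    have huS : u ∈ (S : Subgroup (G ⧸ center G)).comap σ := by
      rw [Subgroup.mem_comap, hu]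
      exact ⟨ψ (QuaternionGroup.xa 0), (φ.symm _).2, rfl⟩
    have hzc : ∀ y : G, σ y = 1 → ∀ w : G, Commute w y := fun y hy w =>
      Subgroup.mem_center_iff.1 (hker ▸ MonoidHom.mem_ker.2 hy) w
    suffices Commute u (t ^ hh) by rw [this.eq, mul_inv_cancel_right]
    rcases hgen _ ht₁S with ⟨i, hi⟩ | ⟨i, hi⟩
    · simp only at hi
      have h1 : x * c ^ i * x⁻¹ = c ^ i := by
        rw [hi, ← hu, ← map_inv, ← map_mul, ← map_mul, (ht₁c u huS).symm.eq, mul_inv_cancel_right]
      rw [← conj_zpow, hxc, inv_zpow, inv_eq_iff_mul_eq_one, ← zpow_add] at h1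
      have h2 := orderOf_dvd_iff_zpow_eq_one.2 h1
      rw [hord, hn2] at h2
      obtain ⟨j, hj⟩ := h2
      have hij : i = (hh : ℤ) * j := by push_cast at hj; linarith
      obtain ⟨j', rfl | rfl⟩ := Int.even_or_odd' j
      · exfalso
        refine ht₁z ?_
        rw [← hi]
        refine orderOf_dvd_iff_zpow_eq_one.1 ⟨j', ?_⟩
        rw [hord, hn2, hij]; push_cast; ring
      · have e1 : Commute u (t ^ i) := by
          have hz : σ (t₁⁻¹ * t ^ i) = 1 := by rw [map_mul, map_inv, map_zpow, ht, hi, inv_mul_cancel]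
          rw [show t ^ i = t₁ * (t₁⁻¹ * t ^ i) by group]
          exact (ht₁c u huS).symm.mul_right (hzc _ hz u)
        have e2 : Commute u (t ^ ((n : ℤ) * j')) := hzc _ (by
          rw [map_zpow, ht, ← hord, zpow_mul, zpow_natCast, pow_orderOf_eq_one, one_zpow]) u
        have e3 : Commute u (t ^ (i + -((n : ℤ) * j'))) := by
          rw [zpow_add, zpow_neg]; exact e1.mul_right e2.inv_right
        rw [show i + -((n : ℤ) * j') = (hh : ℤ) by rw [hij, hn2]; push_cast; ring, zpow_natCast] at e3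
        exact e3
    · simp only at hi
      have hz : σ ((t₁ * (t ^ i)⁻¹)⁻¹ * u) = 1 := by
        rw [map_mul, map_inv, map_mul, map_inv, map_zpow, ht, hu, hi]
        group
      have e1 : Commute t u := by
        rw [show u = (t₁ * (t ^ i)⁻¹) * ((t₁ * (t ^ i)⁻¹)⁻¹ * u) by group]
        exact ((ht₁c t htS).symm.mul_right ((Commute.refl t).zpow_right i).inv_right).mul_right (hzc _ hz t)
      exact e1.symm.pow_right hh
  -- conclusion
  rw [eq_bot_iff]
  rintro z ⟨hz', hzc⟩
  by_contra hz1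
  obtain ⟨ℓ, hℓ, hdvd⟩ := Nat.exists_prime_and_dvd (fun e' => hz1 (Subgroup.mem_bot.2 (orderOf_eq_one_iff.1 e')))
  set w := z ^ (orderOf z / ℓ) with hwdef
  have hord : orderOf w = ℓ := orderOf_pow_orderOf_div (orderOf_pos z).ne' hdvd
  obtain ⟨S, hS, hSH⟩ := hlocal ℓ hℓ
  have hmem := Cfsg.Agent.Schur.pow_index_mem_commutator (S.comap σ) (pow_mem hzc (orderOf z / ℓ)) (pow_mem hz' _)
  rw [Subgroup.map_subtype_commutator, Subgroup.index_comap_of_surjective S hsur] at hmem
  have : w ^ S.index ∈ σ.ker ⊓ ⁅S.comap σ, S.comap σ⁆ :=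
    ⟨by rw [hker]; exact pow_mem (pow_mem hzc _) _, hmem⟩
  rw [hSH, Subgroup.mem_bot] at this
  exact hS (hord ▸ orderOf_dvd_of_pow_eq_one this)

end Cfsg.Agent.CS64
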