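import Cfsg.Agent.CS64.Lift
import Cfsg.Agent.S2507
import Cfsg.Agent.S2508
import Cfsg.Agent.Lib.LinearGroup.Simple
import Cfsg.Agent.S1897

/-!
Groups with the class sizes of `PSL₂(q)` (helper64).
-/

set_option autoImplicit false

namespace Cfsg.Agent.CS64

open Subgroup

universe u v

variable {G : Type u} [Group G] [Finite G] {F : Type v} [Field F] [Fintype F]

theorem main (hq : (2 ∣ Fintype.card F ∧ 2 < Fintype.card F) ∨ (¬ 2 ∣ Fintype.card F ∧ 7 ≤ Fintype.card F))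
    (h : Set.range (fun g : G => (Subgroup.centralizer ({g} : Set G)).index) = Set.range (fun g : (Matrix.ProjectiveSpecialLinearGroup (Fin 2) F) => (Subgroup.centralizer ({g} : Set (Matrix.ProjectiveSpecialLinearGroup (Fin 2) F))).index)) :
    commutator G ⊓ center G = ⊥ ∧
      Nonempty (G ⧸ center G ≃* Matrix.ProjectiveSpecialLinearGroup (Fin 2) F) := by
  classical
  obtain ⟨p, hchar⟩ := CharP.exists F
  obtain ⟨f, hp, hcard⟩ := FiniteField.card F p
  haveI := Fact.mk hp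
  set q := Fintype.card F with hqd
  have hf : 0 < (f : ℕ) := f.pos
  -- a package from the size data
  suffices hs : ∃ d M, SizeData G p q d M ∧ (d = 2 → ∃ g : G, g ∉ center G ∧ ¬ 2 ∣ sz g ∧ MaxSz G (sz g)) by
    obtain ⟨d, M, hdata, hinv⟩ := hs
    obtain ⟨K, iK, iK', hK, ⟨e⟩⟩ := hdata.numerics.iso
    refine ⟨hdata.inf_eq_bot hK e hinv, ⟨e.trans (LinearGroup.pslCongr
      (FiniteField.ringEquivOfCardEq (hK.trans hqd)))⟩⟩
  have hall : ∀ S : Set ℕ, Set.range (fun g : (Matrix.ProjectiveSpecialLinearGroup (Fin 2) F) =>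
      (Subgroup.centralizer ({g} : Set (Matrix.ProjectiveSpecialLinearGroup (Fin 2) F))).index) = S →
      (∀ g : G, sz g ∈ S) ∧ ∀ s ∈ S, ∃ g : G, sz g = s := fun S hS => by
    rw [← hS, ← h]
    exact ⟨fun g => ⟨g, rfl⟩, fun s ⟨g, hg⟩ => ⟨g, hg⟩⟩
  rcases hq with ⟨h2, hlt⟩ | ⟨hodd, h7⟩
  · have hp2 : p = 2 := ((Nat.prime_dvd_prime_iff_eq Nat.prime_two hp).1
      (Nat.prime_two.dvd_of_dvd_pow (hcard ▸ h2))).symm
    subst hp2
    have h4 : 4 ≤ q := by obtain ⟨t, ht⟩ := h2; omega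
    have hf2 : 2 ≤ (f : ℕ) := by
      by_contra hc
      rw [show (f : ℕ) = 1 by omega, pow_one] at hcard
      omega
    obtain ⟨h1, h2'⟩ := hall _ (S2507.result h2 h4)
    have e1 : q ^ 2 - 1 = (q - 1) * (q + 1) := by
      rw [mul_comm, ← Nat.sq_sub_sq, one_pow]
    refine ⟨1, (q - 1) * (q + 1), even_case hf2 hcard (by omega) rfl (fun g => ?_) ?_ ?_ ?_, fun hd => absurd hd (by norm_num)⟩
    · rcases h1 g with e | e | e | e
      · exact Or.inl e
      · exact Or.inr (Or.inr (Or.inl e))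
      · exact Or.inr (Or.inl (e.trans e1))
      · exact Or.inr (Or.inr (Or.inr e))
    · obtain ⟨g, hg⟩ := h2' (q ^ 2 - 1) (Set.mem_insert_of_mem _ (Set.mem_insert_of_mem _ (Set.mem_insert _ _))); exact ⟨g, hg.trans e1⟩
    · exact h2' _ (by simp [← hqd])
    · exact h2' _ (by simp [← hqd])
  · have hp2 : p ≠ 2 := fun e => hodd (by rw [hcard, e]; exact dvd_pow_self 2 hf.ne')
    obtain ⟨h14, h34⟩ := S2508.result hodd h7
    obtain ⟨s, hs⟩ : ∃ s, q = 2 * s + 1 := ⟨q / 2, by omega⟩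
    have hsq : q ^ 2 = 4 * (s * (s + 1)) + 1 := by rw [hs]; ring
    suffices hx : ∃ u v, Odd u ∧ 3 ≤ u ∧ 4 ∣ v ∧ v ≠ 0 ∧ u.Coprime v ∧ u * v = 2 * (s * (s + 1)) ∧
        (∀ g : G, sz g = 1 ∨ sz g = u * v ∨ sz g = q * u ∨ sz g = 2 * (q * u) ∨ sz g = q * v) ∧
        (∃ g : G, sz g = u * v) ∧ (∃ g : G, sz g = q * u) ∧ (∃ g : G, sz g = q * v) by
      obtain ⟨u, v, hu, hu3, hv, hv0, huv, huv', hS, hb, hi, hc⟩ := hx
      obtain ⟨hdata, hmax⟩ := odd_case (p := p) hf hp2 hcard h7 hu hu3 hv hv0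
        (by rw [huv', hsq]; ring) huv hS hb hi hc
      refine ⟨2, u * v, hdata, fun _ => ?_⟩
      obtain ⟨g, hg⟩ := hi
      refine ⟨g, fun hc' => ?_, ?_, hg ▸ hmax⟩
      · rw [sz_eq_one_iff.2 hc'] at hg
        have := Nat.le_mul_of_pos_right q (show 0 < u by omega)
        omega
      · rw [hg]; exact fun hd => (Nat.prime_two.dvd_mul.1 hd).elim hodd
          (fun h' => Nat.not_even_iff_odd.2 hu (even_iff_two_dvd.2 h'))
    have eb : (q ^ 2 - 1) / 2 = 2 * (s * (s + 1)) := by omega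
    rcases (by omega : q % 4 = 1 ∨ q % 4 = 3) with h4 | h4
    · obtain ⟨t, rfl⟩ : ∃ t, s = 2 * t := ⟨s / 2, by omega⟩
      obtain ⟨h1, h2'⟩ := hall _ (h14 h4)
      have e1 : (q ^ 2 - 1) / 2 = (2 * t + 1) * (4 * t) := by rw [eb]; ring
      have e2 : q * (q + 1) / 2 = q * (2 * t + 1) := by
        rw [show q + 1 = (2 * t + 1) * 2 by omega, ← mul_assoc, Nat.mul_div_cancel _ two_pos]
      have e3 : q - 1 = 4 * t := by omega
      have e4 : q * (q + 1) = 2 * (q * (2 * t + 1)) := by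
        rw [show q + 1 = 2 * (2 * t + 1) by omega]; ring
      refine ⟨2 * t + 1, 4 * t, odd_two_mul_add_one t, by omega, dvd_mul_right 4 t, by omega,
        ?_, by ring, fun g => ?_, ?_, ?_, ?_⟩
      · rw [show 4 * t = 2 * 2 * t by ring]
        exact Nat.Coprime.mul_right (Nat.Coprime.mul_right (by simp [Nat.coprime_two_right])
          (by simp [Nat.coprime_two_right])) (by simp)
      · rcases h1 g with e | e | e | e | e
        · exact Or.inl e
        · exact Or.inr (Or.inl (e.trans e1))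
        · exact Or.inr (Or.inr (Or.inl (e.trans e2)))
        · exact Or.inr (Or.inr (Or.inr (Or.inr (e.trans (by rw [e3])))))
        · exact Or.inr (Or.inr (Or.inr (Or.inl (e.trans e4))))
      · obtain ⟨g, hg⟩ := h2' ((q ^ 2 - 1) / 2) (by simp [← hqd]); exact ⟨g, hg.trans e1⟩
      · obtain ⟨g, hg⟩ := h2' (q * (q + 1) / 2) (by simp [← hqd]); exact ⟨g, hg.trans e2⟩
      · obtain ⟨g, hg⟩ := h2' (q * (q - 1)) (by simp [← hqd]); exact ⟨g, hg.trans (by rw [e3])⟩
    · obtain ⟨t, rfl⟩ : ∃ t, s = 2 * t + 1 := ⟨s / 2, by omega⟩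
      obtain ⟨h1, h2'⟩ := hall _ (h34 h4)
      have e1 : (q ^ 2 - 1) / 2 = (2 * t + 1) * (4 * (t + 1)) := by rw [eb]; ring
      have e2 : q * (q - 1) / 2 = q * (2 * t + 1) := by
        rw [show q - 1 = (2 * t + 1) * 2 by omega, ← mul_assoc, Nat.mul_div_cancel _ two_pos]
      have e3 : q + 1 = 4 * (t + 1) := by omega
      have e4 : q * (q - 1) = 2 * (q * (2 * t + 1)) := by
        rw [show q - 1 = 2 * (2 * t + 1) by omega]; ring
      refine ⟨2 * t + 1, 4 * (t + 1), odd_two_mul_add_one t, by omega, dvd_mul_right 4 _, by omega,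
        ?_, by ring, fun g => ?_, ?_, ?_, ?_⟩
      · rw [show 4 * (t + 1) = 2 * (2 * (t + 1)) by ring]
        refine Nat.Coprime.mul_right (by simp [Nat.coprime_two_right]) ?_
        rw [show 2 * (t + 1) = 2 * t + 1 + 1 by ring]
        exact Nat.coprime_self_add_right.2 (Nat.coprime_one_right _)
      · rcases h1 g with e | e | e | e | e
        · exact Or.inl e
        · exact Or.inr (Or.inl (e.trans e1))
        · exact Or.inr (Or.inr (Or.inl (e.trans e2)))
        · exact Or.inr (Or.inr (Or.inr (Or.inr (e.trans (by rw [e3])))))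
        · exact Or.inr (Or.inr (Or.inr (Or.inl (e.trans e4))))
      · obtain ⟨g, hg⟩ := h2' ((q ^ 2 - 1) / 2) (by simp [← hqd]); exact ⟨g, hg.trans e1⟩
      · obtain ⟨g, hg⟩ := h2' (q * (q - 1) / 2) (by simp [← hqd]); exact ⟨g, hg.trans e2⟩
      · obtain ⟨g, hg⟩ := h2' (q * (q + 1)) (by simp [← hqd]); exact ⟨g, hg.trans (by rw [e3])⟩

/-- The direct product decomposition. -/
theorem decomposition (hq : (2 ∣ Fintype.card F ∧ 2 < Fintype.card F) ∨ (¬ 2 ∣ Fintype.card F ∧ 7 ≤ Fintype.card F))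
    (h : Set.range (fun g : G => (Subgroup.centralizer ({g} : Set G)).index) = Set.range (fun g : (Matrix.ProjectiveSpecialLinearGroup (Fin 2) F) => (Subgroup.centralizer ({g} : Set (Matrix.ProjectiveSpecialLinearGroup (Fin 2) F))).index)) :
    ∃ N A : Subgroup G, N.Normal ∧ A ≤ Subgroup.center G ∧ N ⊓ A = ⊥ ∧ N ⊔ A = ⊤ ∧
      Nonempty (N ≃* Matrix.ProjectiveSpecialLinearGroup (Fin 2) F) := by
  obtain ⟨hbot, ⟨e⟩⟩ := main hq h
  have hperf : commutator (Matrix.ProjectiveSpecialLinearGroup (Fin 2) F) = ⊤ := by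
    refine LinearGroup.commutator_PSL_eq_top fun _ => ?_
    classical
    by_contra hc
    push Not at hc
    have hsub : (Finset.univ : Finset F) ⊆ {0, 1, -1} := fun a _ => by
      by_cases ha : a = 0
      · simp [ha]
      · rcases sq_eq_one_iff.1 (hc a ha) with e' | e' <;> simp [e']
    have := Finset.card_le_card hsub
    have h3 : ({0, 1, -1} : Finset F).card ≤ 3 := Finset.card_le_three
    rw [Finset.card_univ] at this
    rcases hq with ⟨⟨t, ht⟩, hlt⟩ | ⟨-, h7⟩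
    · omega
    · omega
  set σ := QuotientGroup.mk' (center G)
  have hsur : Function.Surjective (e.toMonoidHom.comp σ) := e.surjective.comp (QuotientGroup.mk'_surjective _)
  have hmap : (commutator G).map (e.toMonoidHom.comp σ) = ⊤ := by
    rw [commutator_def, Subgroup.map_commutator, ← MonoidHom.range_eq_map,
      MonoidHom.range_eq_top.2 hsur, ← commutator_def, hperf]
  have hkk : ∀ g : G, (e.toMonoidHom.comp σ) g = 1 ↔ g ∈ center G := fun g => by
    show e (σ g) = 1 ↔ _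
    rw [MulEquiv.map_eq_one_iff]
    exact QuotientGroup.eq_one_iff g
  refine ⟨commutator G, center G, inferInstance, le_rfl, hbot, ?_, ⟨MulEquiv.ofBijective
    ((e.toMonoidHom.comp σ).comp (commutator G).subtype) ⟨?_, ?_⟩⟩⟩
  · refine eq_top_iff.2 fun g _ => ?_
    obtain ⟨n, hn, hng⟩ : (e.toMonoidHom.comp σ) g ∈ (commutator G).map (e.toMonoidHom.comp σ) := by
      rw [hmap]; trivial
    rw [show g = n * (n⁻¹ * g) by group]
    refine Subgroup.mul_mem_sup hn ((hkk _).1 ?_)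
    rw [map_mul, map_inv, hng, inv_mul_cancel]
  · rw [injective_iff_map_eq_one]
    intro n hn
    exact Subtype.ext (Subgroup.mem_bot.1 (hbot ▸ ⟨n.2, (hkk _).1 hn⟩))
  · intro y
    obtain ⟨n, hn, hny⟩ : y ∈ (commutator G).map (e.toMonoidHom.comp σ) := by rw [hmap]; trivial
    exact ⟨⟨n, hn⟩, hny⟩

end Cfsg.Agent.CS64
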