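import Cfsg.Agent.S0001
import Cfsg.Agent.PF14.Compose
import Mathlib.GroupTheory.SchurZassenhaus
import Mathlib.GroupTheory.Nilpotent
import Mathlib.Algebra.BigOperators.Fin
import Mathlib.GroupTheory.OrderOfElement

/-!
Groups in which the centralizers of the `p`-elements are `p`-groups, with Sylow subgroups of
exponent `p` (`p` odd): the Sylow `p`-subgroups intersect trivially (helper64).
-/

set_option autoImplicit false

namespace Cfsg.Agent.CS64

open Subgroup
open scoped commutatorElement Pointwise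

universe u

variable {H : Type u} [Group H] [Finite H] {p : ℕ} [hp : Fact p.Prime]

theorem eq_one_of_commute_pgroup (hC : ∀ x : H, x ≠ 1 → x ^ p = 1 → IsPGroup p (centralizer ({x} : Set H)))
    {x y : H} (hx : x ≠ 1) (hxp : x ^ p = 1) (hy : (orderOf y).Coprime p) (hc : Commute y x) :
    y = 1 := by
  obtain ⟨k, hk⟩ := hC x hx hxp ⟨y, mem_centralizer_singleton_iff.2 hc⟩
  have hk' : y ^ p ^ k = 1 := congrArg Subtype.val hk
  exact orderOf_eq_one_iff.1 (Nat.eq_one_of_dvd_coprimes (hy.pow_right k) dvd_rfl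
    (orderOf_dvd_of_pow_eq_one hk'))

theorem disjoint_sylow (hp2 : p ≠ 2) (hexp : ∀ x : H, (∃ k : ℕ, x ^ p ^ k = 1) → x ^ p = 1)
    (hC : ∀ x : H, x ≠ 1 → x ^ p = 1 → IsPGroup p (centralizer ({x} : Set H)))
    (P₁ R₁ : Sylow p H) (hne : P₁ ≠ R₁) : (P₁ : Subgroup H) ⊓ R₁ = ⊥ := by
  classical
  by_contra hne1
  haveI : Nonempty {pr : Sylow p H × Sylow p H // pr.1 ≠ pr.2} := ⟨⟨(P₁, R₁), hne⟩⟩
  obtain ⟨⟨⟨P, R⟩, hPR⟩, hmax⟩ := Finite.exists_max
    (fun pr : {pr : Sylow p H × Sylow p H // pr.1 ≠ pr.2} => Nat.card ↥((pr.1.1 : Subgroup H) ⊓ pr.1.2))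
  have hPR' : P ≠ R := hPR
  set E : Subgroup H := (P : Subgroup H) ⊓ R with hE
  have hE1 : 1 < Nat.card E := by
    refine lt_of_lt_of_le ?_ (hmax ⟨(P₁, R₁), hne⟩)
    exact (Subgroup.one_lt_card_iff_ne_bot _).2 hne1
  have hEp : IsPGroup p E := P.2.to_le inf_le_left
  have hexpE : ∀ e ∈ E, e ^ p = 1 := fun e he => hexp e (by
    obtain ⟨k, hk⟩ := hEp ⟨e, he⟩; exact ⟨k, congrArg Subtype.val hk⟩)
  obtain ⟨e₁, he₁, he₁1⟩ : ∃ e ∈ E, e ≠ 1 := by
    have h := (Subgroup.one_lt_card_iff_ne_bot _).1 hE1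
    rw [Subgroup.ne_bot_iff_exists_ne_one] at h
    obtain ⟨⟨e, he⟩, hne'⟩ := h
    exact ⟨e, he, fun h => hne' (Subtype.ext h)⟩
  set N : Subgroup H := normalizer (E : Set H) with hN
  have hEN : E ≤ N := le_normalizer
  -- a normalizing element in each of `P`, `R`
  have hgrow : ∀ S : Sylow p H, E ≤ S → (S : Subgroup H) ≠ E → ∃ x ∈ (S : Subgroup H), x ∈ N ∧ x ∉ E := by
    intro S hES hSE
    haveI : Group.IsNilpotent (S : Subgroup H) := S.2.isNilpotent
    have hlt : E.subgroupOf S < ⊤ := lt_top_iff_ne_top.2 fun h =>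
      hSE (le_antisymm (subgroupOf_eq_top.1 h) hES)
    obtain ⟨y, hy, hy'⟩ := SetLike.exists_of_lt (Group.normalizerCondition_of_isNilpotent _ hlt)
    refine ⟨y, y.2, ?_, fun h => hy' (mem_subgroupOf.2 h)⟩
    rw [hN, Subgroup.mem_normalizer_iff]
    intro n
    have hy2 := Subgroup.mem_normalizer_iff.1 hy
    constructor
    · intro hn
      exact (hy2 ⟨n, hES hn⟩).1 hn
    · intro hn
      have hn' : n ∈ (S : Subgroup H) := by
        have := mul_mem (mul_mem (inv_mem y.2) (hES hn)) y.2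
        rwa [show (y : H)⁻¹ * ((y : H) * n * (y : H)⁻¹) * y = n by group] at this
      exact (hy2 ⟨n, hn'⟩).2 hn
  have hcardPR : Nat.card (P : Subgroup H) = Nat.card (R : Subgroup H) :=
    Nat.card_congr (Sylow.equiv P R).toEquiv
  have hEP : (P : Subgroup H) ≠ E := fun h => hPR' (Sylow.ext
    (Subgroup.eq_of_le_of_card_ge (h ▸ inf_le_right) hcardPR.ge))
  have hER : (R : Subgroup H) ≠ E := fun h => hPR' (Sylow.ext
    (Subgroup.eq_of_le_of_card_ge (h ▸ inf_le_left) hcardPR.le)).symm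
  -- normal `p`-subgroups of `N` lie in `E`
  have hcore : ∀ K : Subgroup H, IsPGroup p K → N ≤ normalizer (K : Set H) → K ≤ E := by
    intro K hK hKN
    have key : ∀ S : Sylow p H, E ≤ S → (S : Subgroup H) ≠ E → K ≤ S := by
      intro S hES hSE
      obtain ⟨x, hxS, hxN, hxE⟩ := hgrow S hES hSE
      have hNS : IsPGroup p ↥(N ⊓ (S : Subgroup H)) := S.2.to_le inf_le_right
      obtain ⟨S', hS'⟩ := (hNS.to_sup_of_normal_right' hK (inf_le_left.trans hKN)).exists_le_sylow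
      by_contra hKS
      have hne' : S ≠ S' := fun h => hKS (h ▸ le_sup_right.trans hS')
      have hlt : E < (S : Subgroup H) ⊓ S' := lt_of_le_of_ne
        (le_inf hES ((le_inf hEN hES).trans (le_sup_left.trans hS')))
        (fun h => hxE (h ▸ ⟨hxS, hS' (Subgroup.mem_sup_left ⟨hxN, hxS⟩)⟩))
      exact absurd (hmax ⟨(S, S'), hne'⟩) (not_le.2 (by
        refine lt_of_le_of_ne (Subgroup.card_le_of_le hlt.le) fun hcd => hlt.ne ?_
        exact Subgroup.eq_of_le_of_card_ge hlt.le hcd.ge))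
    exact le_inf (key P inf_le_left hEP) (key R inf_le_right hER)
  have hnorm : ∀ n ∈ N, ∀ e ∈ E, n * e * n⁻¹ ∈ E := fun n hn e he =>
    (Subgroup.mem_normalizer_iff.1 hn e).1 he
  have hCE : ∀ c : H, (∀ e ∈ E, Commute c e) → c ∈ E := by
    intro c hc
    refine hcore (centralizer (E : Set H)) ?_ ?_ (Subgroup.mem_centralizer_iff.2 fun e he => (hc e he).eq.symm)
    · refine (hC e₁ he₁1 (hexpE e₁ he₁)).to_le fun y hy => mem_centralizer_singleton_iff.2 ?_
      exact ((Subgroup.mem_centralizer_iff.1 hy e₁ he₁).symm)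
    · intro n hn
      rw [Subgroup.mem_normalizer_iff]
      intro y
      have h1 : ∀ m ∈ N, ∀ y ∈ centralizer (E : Set H), m * y * m⁻¹ ∈ centralizer (E : Set H) := by
        intro m hm y hy
        rw [Subgroup.mem_centralizer_iff] at hy ⊢
        intro e he
        have := hy (m⁻¹ * e * m) (by
          have := hnorm m⁻¹ (inv_mem hm) e he
          rwa [inv_inv] at this)
        calc e * (m * y * m⁻¹) = m * ((m⁻¹ * e * m) * y) * m⁻¹ := by group
          _ = m * (y * (m⁻¹ * e * m)) * m⁻¹ := by rw [this]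
          _ = m * y * m⁻¹ * e := by group
      refine ⟨h1 n hn y, fun h => ?_⟩
      have := h1 n⁻¹ (inv_mem hn) _ h
      rwa [show n⁻¹ * (n * y * n⁻¹) * n⁻¹⁻¹ = y by group] at this
  obtain ⟨x, hxP, hxN, hxE⟩ := hgrow P inf_le_left hEP
  have hPel : ∀ z ∈ (P : Subgroup H), z ^ p = 1 := fun z hz => hexp z (by
    obtain ⟨k, hk⟩ := P.2 ⟨z, hz⟩; exact ⟨k, congrArg Subtype.val hk⟩)
  -- `N` has odd order
  have hodd : Odd (Nat.card N) := by
    by_contra hev
    rw [Nat.not_odd_iff_even, even_iff_two_dvd] at hev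
    haveI : Fact (Nat.Prime 2) := ⟨Nat.prime_two⟩
    obtain ⟨⟨s, hsN⟩, hs⟩ := exists_prime_orderOf_dvd_card' 2 hev
    rw [Subgroup.orderOf_mk] at hs
    have hs1 : s ≠ 1 := fun h => by rw [h, orderOf_one] at hs; omega
    have hss : s * s = 1 := by rw [← sq, ← hs, pow_orderOf_eq_one]
    have hsinv : s⁻¹ = s := inv_eq_of_mul_eq_one_right hss
    have hscop : (orderOf s).Coprime p := by
      rw [hs]; exact (Nat.coprime_primes Nat.prime_two hp.out).2 (Ne.symm hp2)
    have hsE : ∀ e ∈ E, s * e * s ∈ E := fun e he => by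
      have := hnorm s hsN e he; rwa [hsinv] at this
    have hinv : ∀ e ∈ E, s * e * s = e⁻¹ := by
      let f : E → E := fun e => ⟨(e : H)⁻¹ * (s * e * s), mul_mem (inv_mem e.2) (hsE e e.2)⟩
      have hf : Function.Injective f := by
        rintro ⟨a, ha⟩ ⟨b, hb⟩ h
        have h' : a⁻¹ * (s * a * s) = b⁻¹ * (s * b * s) := congrArg Subtype.val h
        refine Subtype.ext (mul_inv_eq_one.1 ?_)
        by_contra hab
        refine hs1 (eq_one_of_commute_pgroup hC (x := b * a⁻¹) (fun h0 => hab ?_)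
          (hexpE _ (mul_mem hb (inv_mem ha))) hscop ?_)
        · rw [show a * b⁻¹ = (b * a⁻¹)⁻¹ by group, h0, inv_one]
        · show s * (b * a⁻¹) = b * a⁻¹ * s
          have e2 : b * a⁻¹ * (s * a * s) = s * b * s := by rw [mul_assoc b, h', mul_inv_cancel_left]
          calc s * (b * a⁻¹) = (s * b * s) * (s⁻¹ * a⁻¹) := by group
            _ = b * a⁻¹ * s := by rw [← e2]; group
      intro e he
      obtain ⟨⟨a, ha⟩, hae⟩ := Finite.injective_iff_surjective.1 hf ⟨e, he⟩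
      have e1 : a⁻¹ * (s * a * s) = e := congrArg Subtype.val hae
      rw [← e1]
      calc s * (a⁻¹ * (s * a * s)) * s = (s * a⁻¹ * s) * a * (s * s) := by group
        _ = (s * a * s)⁻¹ * a := by rw [hss, mul_one, mul_inv_rev, mul_inv_rev, hsinv, mul_assoc s]
        _ = (a⁻¹ * (s * a * s))⁻¹ := by group
    set c := x * s * x⁻¹ * s with hc
    have hcE : c ∈ E := hCE c fun e he => by
      have h1 : x⁻¹ * e * x ∈ E := by
        have := hnorm x⁻¹ (inv_mem hxN) e he; rwa [inv_inv] at this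
      show c * e = e * c
      have h2 : s * e = e⁻¹ * s := by
        rw [← hinv e he, mul_assoc, hss, mul_one]
      have h3 : (x * s * x⁻¹) * e⁻¹ = e * (x * s * x⁻¹) := by
        have h4 : s * (x⁻¹ * e⁻¹ * x) = (x⁻¹ * e * x) * s := by
          have h5 := hinv _ (inv_mem h1)
          rw [inv_inv] at h5
          calc s * (x⁻¹ * e⁻¹ * x) = (s * (x⁻¹ * e * x)⁻¹ * s) * s⁻¹ := by group
            _ = _ := by rw [h5, hsinv]
        calc x * s * x⁻¹ * e⁻¹ = x * (s * (x⁻¹ * e⁻¹ * x)) * x⁻¹ := by group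
          _ = x * ((x⁻¹ * e * x) * s) * x⁻¹ := by rw [h4]
          _ = _ := by group
      calc c * e = x * s * x⁻¹ * (s * e) := by rw [hc]; group
        _ = (x * s * x⁻¹) * e⁻¹ * s := by rw [h2]; group
        _ = e * c := by rw [h3, hc]; group
    obtain ⟨m, hm⟩ : Odd (orderOf c) := by
      obtain ⟨k, hk⟩ := hEp ⟨c, hcE⟩
      have hk' : c ^ p ^ k = 1 := congrArg Subtype.val hk
      exact Odd.of_dvd_nat ((hp.out.odd_of_ne_two hp2).pow) (orderOf_dvd_of_pow_eq_one hk')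
    set f := c ^ (m + 1) with hf
    have hff : f * f = c := by
      rw [hf, ← pow_add, show m + 1 + (m + 1) = orderOf c + 1 by omega, pow_succ, pow_orderOf_eq_one,
        one_mul]
    have hfE : f ∈ E := pow_mem hcE _
    set z := f⁻¹ * x with hz
    have hzP : z ∈ (P : Subgroup H) := mul_mem (inv_mem (inf_le_left (α := Subgroup H) hfE)) hxP
    have hz1 : z ≠ 1 := fun h => hxE (by rw [← inv_mul_eq_one.1 h]; exact hfE)
    refine hs1 (eq_one_of_commute_pgroup hC hz1 (hPel z hzP) hscop ?_)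
    have e1 : x * s * x⁻¹ = c * s := by rw [hc, mul_assoc (x * s * x⁻¹), hss, mul_one]
    have e2 : z * s * z⁻¹ = s := by
      calc z * s * z⁻¹ = f⁻¹ * (x * s * x⁻¹) * f := by rw [hz]; group
        _ = f * (s * f * s) * s⁻¹ := by rw [e1, ← hff]; group
        _ = s := by rw [hinv f hfE, hsinv]; group
    exact (mul_inv_eq_iff_eq_mul.1 e2).symm
  haveI hsolvN : Group.IsSolvable N := PF14.feitThompson N hodd
  -- a normal abelian `p'`-subgroup of `N / E`
  haveI hnormal : (E.subgroupOf N).Normal := Subgroup.normal_in_normalizer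
  set π := QuotientGroup.mk' (E.subgroupOf N) with hπ
  have hπmem : ∀ y : N, π y = 1 ↔ (y : H) ∈ E := fun y => by
    rw [← MonoidHom.mem_ker, hπ, QuotientGroup.ker_mk']; exact mem_subgroupOf
  obtain ⟨A, hAn, hA1, hAc⟩ : ∃ A : Subgroup (N ⧸ E.subgroupOf N),
      A.Normal ∧ A ≠ ⊥ ∧ ⁅A, A⁆ = ⊥ := by
    haveI : Group.IsSolvable (N ⧸ E.subgroupOf N) := inferInstance
    obtain ⟨n, hn⟩ := (Group.isSolvable_def _).1 ‹_›
    have hnt : (⊤ : Subgroup (N ⧸ E.subgroupOf N)) ≠ ⊥ := fun h => hxE ((hπmem ⟨x, hxN⟩).1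
      (Subgroup.mem_bot.1 (h ▸ Subgroup.mem_top (π ⟨x, hxN⟩))))
    have hex : ∃ n, derivedSeries (N ⧸ E.subgroupOf N) n = ⊥ := ⟨n, hn⟩
    have h0 : Nat.find hex ≠ 0 := fun h => hnt (by rw [← derivedSeries_zero, ← h]; exact Nat.find_spec hex)
    refine ⟨derivedSeries _ (Nat.find hex - 1), inferInstance, Nat.find_min hex (by omega), ?_⟩
    rw [← derivedSeries_succ, show Nat.find hex - 1 + 1 = Nat.find hex by omega]
    exact Nat.find_spec hex
  have hAcomm : ∀ a ∈ A, ∀ b ∈ A, Commute a b := fun a ha b hb => by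
    have := Subgroup.commutator_mem_commutator ha hb
    rw [hAc, Subgroup.mem_bot] at this
    exact commutatorElement_eq_one_iff_mul_comm.1 this
  have hAp : ¬ p ∣ Nat.card A := by
    intro hd
    obtain ⟨⟨a, haA⟩, ha⟩ := exists_prime_orderOf_dvd_card' p hd
    rw [Subgroup.orderOf_mk] at ha
    let T : Subgroup (N ⧸ E.subgroupOf N) :=
      { carrier := {a | a ∈ A ∧ a ^ p = 1}
        one_mem' := ⟨one_mem A, one_pow _⟩
        mul_mem' := fun {a b} h1 h2 => ⟨mul_mem h1.1 h2.1, by rw [(hAcomm a h1.1 b h2.1).mul_pow, h1.2, h2.2, one_mul]⟩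
        inv_mem' := fun {a} h => ⟨inv_mem h.1, by rw [inv_pow, h.2, inv_one]⟩ }
    have hTp : IsPGroup p (T.comap π) := by
      refine IsPGroup.comap_of_ker_isPGroup (fun t => ⟨1, Subtype.ext (by
        show (t : N ⧸ E.subgroupOf N) ^ p ^ 1 = 1
        rw [pow_one]; exact t.2.2)⟩) π ?_
      rw [hπ, QuotientGroup.ker_mk']
      exact hEp.of_equiv (subgroupOfEquivOfLe hEN).symm
    haveI : T.Normal := ⟨fun t ht g => ⟨hAn.conj_mem t ht.1 g, by
      rw [conj_pow, ht.2, mul_one, mul_inv_cancel]⟩⟩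
    have hKN : N ≤ normalizer (((T.comap π).map N.subtype : Subgroup H) : Set H) := by
      intro n hn
      rw [Subgroup.mem_normalizer_iff]
      intro y
      constructor
      · rintro ⟨w, hw, rfl⟩
        exact ⟨⟨n, hn⟩ * w * ⟨n, hn⟩⁻¹, (inferInstance : (T.comap π).Normal).conj_mem w hw _, rfl⟩
      · rintro ⟨w, hw, hwy⟩
        refine ⟨⟨n, hn⟩⁻¹ * w * ⟨n, hn⟩⁻¹⁻¹, (inferInstance : (T.comap π).Normal).conj_mem w hw _, ?_⟩
        have hwy' : (w : H) = n * y * n⁻¹ := hwy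
        show n⁻¹ * (w : H) * n⁻¹⁻¹ = y
        rw [hwy']; group
    have hle := hcore _ (hTp.map N.subtype) hKN
    obtain ⟨w, hw⟩ := QuotientGroup.mk'_surjective (E.subgroupOf N) a
    have hwE : (w : H) ∈ E := hle ⟨w, show π w ∈ T by
      rw [show π w = a from hw]; exact ⟨haA, by rw [← ha, pow_orderOf_eq_one]⟩, rfl⟩
    have ha1 : a = 1 := by rw [← hw]; exact (hπmem w).2 hwE
    rw [ha1, orderOf_one] at ha
    exact hp.out.one_lt.ne ha
  -- a complement
  set Ah := A.comap π with hAh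
  haveI : Ah.Normal := Subgroup.Normal.comap hAn π
  set E' := (E.subgroupOf N).subgroupOf Ah with hE'
  have hEAh : E.subgroupOf N ≤ Ah := fun y hy =>
    Subgroup.mem_comap.2 (by rw [(hπmem y).2 (mem_subgroupOf.1 hy)]; exact one_mem _)
  have hcardE' : Nat.card E' = Nat.card E :=
    Nat.card_congr ((subgroupOfEquivOfLe hEAh).trans (subgroupOfEquivOfLe hEN)).toEquiv
  have hindE' : E'.index = Nat.card A := by
    have h := Subgroup.relIndex_ker (K := Ah) π
    rw [hπ, QuotientGroup.ker_mk', ← hπ, hAh,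
      map_comap_eq_self_of_surjective (QuotientGroup.mk'_surjective _)] at h
    rw [hE', ← relIndex]
    exact h
  obtain ⟨kE, hkE⟩ := IsPGroup.iff_card.1 hEp
  have hcop : (Nat.card E').Coprime E'.index := by
    rw [hcardE', hindE', hkE]
    exact Nat.Coprime.pow_left _ ((Nat.Prime.coprime_iff_not_dvd hp.out).2 hAp)
  haveI : E'.Normal := inferInstance
  obtain ⟨A₀, hA₀⟩ := Subgroup.exists_right_complement'_of_coprime hcop
  have hA₀card : Nat.card A₀ = Nat.card A := by rw [← hindE', hA₀.symm.index_eq_card]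
  let σ : Ah ≃* Ah := MulAut.conjNormal (⟨x, hxN⟩ : N)
  set K := A₀.map σ.toMonoidHom with hK
  have hKcard : Nat.card K = Nat.card A₀ :=
    Nat.card_congr (A₀.equivMapOfInjective _ σ.injective).toEquiv.symm
  have hKc : Subgroup.IsComplement' E' K := Subgroup.isComplement'_of_coprime
    (by rw [hKcard, hA₀card, ← hindE', Subgroup.card_mul_index])
    (by rw [hKcard, hA₀card, ← hindE']; exact hcop)
  have hsolvE' : Group.IsSolvable E' :=
    haveI : IsPGroup p E' := hEp.of_equiv (((subgroupOfEquivOfLe hEAh).trans (subgroupOfEquivOfLe hEN))).symm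
    haveI : Group.IsNilpotent E' := IsPGroup.isNilpotent ‹_›
    inferInstance
  obtain ⟨g, hg⟩ := S0001.result E' hcop (Or.inl hsolvE') A₀ K hA₀ hKc
  obtain ⟨⟨⟨g₁, hg₁⟩, ⟨g₂, hg₂⟩⟩, hgg, -⟩ := hA₀.existsUnique g
  have hgg' : g₁ * g₂ = g := hgg
  -- translate to `H`
  set ι : Ah →* H := N.subtype.comp Ah.subtype with hι
  have hιinj : Function.Injective ι := N.subtype_injective.comp Ah.subtype_injective
  set A₁ := A₀.map ι with hA₁
  have hA₁N : A₁ ≤ N := by rintro _ ⟨a, -, rfl⟩; exact (a : N).2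
  have hA₁cop : ∀ a ∈ A₁, (orderOf a).Coprime p := by
    rintro _ ⟨a, ha, rfl⟩
    rw [orderOf_injective ι hιinj, ← Subgroup.orderOf_mk a ha]
    exact Nat.Coprime.coprime_dvd_left (hA₀card ▸ orderOf_dvd_natCard _)
      (((Nat.Prime.coprime_iff_not_dvd hp.out).2 hAp).symm)
  have hA₁c : ∀ a ∈ A₁, ∀ b ∈ A₁, Commute a b := by
    rintro _ ⟨a, ha, rfl⟩ _ ⟨b, hb, rfl⟩
    refine Commute.map ?_ ι
    rw [← commutatorElement_eq_one_iff_commute]
    have h1 : ⁅a, b⁆ ∈ E' := by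
      refine mem_subgroupOf.2 (mem_subgroupOf.2 ((hπmem _).1 ?_))
      show π.comp Ah.subtype ⁅a, b⁆ = 1
      rw [map_commutatorElement]
      exact commutatorElement_eq_one_iff_mul_comm.2 (hAcomm _ a.2 _ b.2).eq
    exact Subgroup.disjoint_def.1 hA₀.disjoint h1 (by
      rw [commutatorElement_def]
      exact mul_mem (mul_mem (mul_mem ha hb) (inv_mem ha)) (inv_mem hb))
  set e₀ : H := ι g₁ with he₀
  have he₀E : e₀ ∈ E := mem_subgroupOf.1 (mem_subgroupOf.1 hg₁)
  set z := e₀⁻¹ * x with hz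
  have hzN : z ∈ N := mul_mem (inv_mem (hEN he₀E)) hxN
  have hzP : z ∈ (P : Subgroup H) := mul_mem (inv_mem (inf_le_left (α := Subgroup H) he₀E)) hxP
  have hz1 : z ∉ E := fun h => hxE (by
    have := mul_mem he₀E h; rwa [hz, mul_inv_cancel_left] at this)
  have hzA : ∀ a ∈ A₁, z * a * z⁻¹ ∈ A₁ := by
    rintro _ ⟨a, ha, rfl⟩
    have hmem : σ a ∈ MulAut.conj g • A₀ := hg ▸ ⟨a, ha, rfl⟩
    rw [Subgroup.mem_pointwise_smul_iff_inv_smul_mem, MulAut.smul_def, ← MulAut.conj.map_inv,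
      MulAut.conj_apply, inv_inv] at hmem
    refine ⟨g₂ * (g⁻¹ * σ a * g) * g₂⁻¹, mul_mem (mul_mem hg₂ hmem) (inv_mem hg₂), ?_⟩
    rw [← hgg']
    have hσ : ι (σ a) = x * ι a * x⁻¹ := rfl
    rw [show g₂ * ((g₁ * g₂)⁻¹ * σ a * (g₁ * g₂)) * g₂⁻¹ = g₁⁻¹ * σ a * g₁ by group, map_mul,
      map_mul, map_inv, hσ, hz, he₀]
    group
  obtain ⟨a₀, ha₀, ha₀1⟩ : ∃ a ∈ A₁, a ≠ 1 := by
    have : A₁ ≠ ⊥ := fun h => hA1 (by
      apply Subgroup.eq_bot_of_card_eq
      rw [← hA₀card, Nat.card_congr (A₀.equivMapOfInjective ι hιinj).toEquiv, ← hA₁, h,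
        Subgroup.card_bot])
    rw [Subgroup.ne_bot_iff_exists_ne_one] at this
    obtain ⟨⟨a, ha⟩, hne'⟩ := this
    exact ⟨a, ha, fun h => hne' (Subtype.ext h)⟩
  -- the norm argument on `V = Z(E)`
  let V : Subgroup H := E ⊓ centralizer (E : Set H)
  have hVE : V ≤ E := inf_le_left
  have hVc : IsMulCommutative V := ⟨⟨fun a b => Subtype.ext
    ((Subgroup.mem_centralizer_iff.1 b.2.2 a.1 a.2.1))⟩⟩
  open scoped IsMulCommutative in
  have hV : ∀ n ∈ N, ∀ v ∈ V, n * v * n⁻¹ ∈ V := by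
    intro n hn v hv
    refine ⟨hnorm n hn v hv.1, Subgroup.mem_centralizer_iff.2 fun e he => ?_⟩
    have := Subgroup.mem_centralizer_iff.1 hv.2 (n⁻¹ * e * n) (by
      have := hnorm n⁻¹ (inv_mem hn) e he
      rwa [inv_inv] at this)
    calc e * (n * v * n⁻¹) = n * ((n⁻¹ * e * n) * v) * n⁻¹ := by group
      _ = n * (v * (n⁻¹ * e * n)) * n⁻¹ := by rw [this]
      _ = n * v * n⁻¹ * e := by group
  obtain ⟨v₀, hv₀, hv₀1⟩ : ∃ v ∈ V, v ≠ 1 := by
    haveI : Nontrivial E := (Subgroup.nontrivial_iff_ne_bot _).2 ((Subgroup.one_lt_card_iff_ne_bot _).1 hE1)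
    obtain ⟨⟨⟨v, hvE⟩, hvc⟩, hv1⟩ := @exists_ne (center E) hEp.center_nontrivial 1
    exact ⟨v, ⟨hvE, Subgroup.mem_centralizer_iff.2 fun e he =>
      congrArg Subtype.val (Subgroup.mem_center_iff.1 hvc ⟨e, he⟩)⟩,
      fun h => hv1 (Subtype.ext (Subtype.ext h))⟩
  letI : CommGroup V := { (inferInstance : Group V) with mul_comm := hVc.is_comm.comm }
  let ψ : N →* MulAut V := MonoidHom.mk'
    (fun n => { toFun := fun v => ⟨(n : H) * v * (n : H)⁻¹, hV n n.2 v v.2⟩
                invFun := fun v => ⟨(n : H)⁻¹ * v * (n : H), by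
                  have := hV _ (inv_mem n.2) v v.2; rwa [inv_inv] at this⟩
                left_inv := fun v => Subtype.ext (by simp [mul_assoc])
                right_inv := fun v => Subtype.ext (by simp [mul_assoc])
                map_mul' := fun v w => Subtype.ext (by simp [mul_assoc]) })
    (fun a b => MulEquiv.ext fun v => Subtype.ext (by simp [mul_assoc]))
  have hψ : ∀ (n : N) (v : V), ((ψ n v : V) : H) = (n : H) * v * (n : H)⁻¹ := fun _ _ => rfl
  have hpow : ∀ (y : N) (v : V) (k : ℕ),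
      ((v : H) * y) ^ k = ((∏ i ∈ Finset.range k, ψ (y ^ i) v : V) : H) * (y : H) ^ k := by
    intro y v k
    induction k with
    | zero => simp
    | succ k ih =>
      rw [pow_succ, ih, Finset.prod_range_succ, Subgroup.coe_mul, hψ, SubmonoidClass.coe_pow, pow_succ]
      group
  have hnormz : ∀ v : V, (∏ i ∈ Finset.range p, ψ ((⟨z, hzN⟩ : N) ^ i) v) = 1 := by
    intro v
    have h1 : ((v : H) * z) ^ p = 1 := hPel _ (mul_mem (inf_le_left (α := Subgroup H) (hVE v.2)) hzP)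
    rw [hpow ⟨z, hzN⟩ v p, hPel z hzP, mul_one] at h1
    exact Subtype.ext h1
  haveI : Fintype A₁ := Fintype.ofFinite _
  let j : A₁ → N := fun a => ⟨a, hA₁N a.2⟩
  set zN : N := ⟨z, hzN⟩ with hzN'
  set w : V := ⟨v₀, hv₀⟩ with hw
  have hsum : (∏ a : A₁, ∏ i ∈ Finset.range p, ψ (j a * zN ^ i * (j a)⁻¹) w) = 1 := by
    refine Finset.prod_eq_one fun a _ => ?_
    have := congrArg (ψ (j a)) (hnormz (ψ (j a)⁻¹ w))
    rw [map_one, map_prod] at this
    simpa [map_mul, MulAut.mul_apply, mul_assoc] using this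
  rw [Finset.prod_comm] at hsum
  obtain ⟨p', rfl⟩ : ∃ p', p = p' + 1 := ⟨p - 1, by have := hp.out.pos; omega⟩
  rw [Finset.prod_range_succ'] at hsum
  have hrest : ∀ i ∈ Finset.range p', (∏ a : A₁, ψ (j a * zN ^ (i + 1) * (j a)⁻¹) w) = 1 := by
    intro i hi
    rw [Finset.mem_range] at hi
    have hzi : ∀ a ∈ A₁, z ^ (i + 1) * a * (z ^ (i + 1))⁻¹ ∈ A₁ := by
      intro a ha
      induction i + 1 with
      | zero => simpa using ha
      | succ k ih =>
        have := hzA _ ih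
        rw [pow_succ', mul_inv_rev]
        simpa [mul_assoc] using this
    have hzi1 : z ^ (i + 1) ≠ 1 := fun h => hz1 (by
      have hcop' : (i + 1).Coprime (p' + 1) :=
        ((Nat.Prime.coprime_iff_not_dvd hp.out).2 fun hd => by
          have := Nat.le_of_dvd (by omega) hd; omega).symm
      obtain ⟨t, ht⟩ := exists_pow_eq_self_of_coprime (x := z) (n := i + 1)
        (hcop'.coprime_dvd_right (orderOf_dvd_of_pow_eq_one (hPel z hzP)))
      rw [← ht, h, one_pow]; exact one_mem _)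
    have hzip : (z ^ (i + 1)) ^ (p' + 1) = 1 := by rw [← pow_mul, mul_comm, pow_mul, hPel z hzP, one_pow]
    let φ : A₁ → A₁ := fun a => ⟨(a : H) * (z ^ (i + 1) * (a : H)⁻¹ * (z ^ (i + 1))⁻¹),
      mul_mem a.2 (hzi _ (inv_mem a.2))⟩
    have hφmul : ∀ a b : A₁, φ (a * b) = φ a * φ b := by
      intro a b
      apply Subtype.ext
      show ((a : H) * b) * (z ^ (i + 1) * ((a : H) * b)⁻¹ * (z ^ (i + 1))⁻¹) =
        (a : H) * (z ^ (i + 1) * (a : H)⁻¹ * (z ^ (i + 1))⁻¹) * ((b : H) * (z ^ (i + 1) * (b : H)⁻¹ * (z ^ (i + 1))⁻¹))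
      have e1 := (hA₁c _ (hzi _ (inv_mem a.2)) _ b.2).eq
      have e2 := (hA₁c _ (hzi _ (inv_mem b.2)) _ (hzi _ (inv_mem a.2))).eq
      rw [mul_inv_rev]
      calc _ = (a : H) * b * ((z ^ (i + 1) * (b : H)⁻¹ * (z ^ (i + 1))⁻¹) * (z ^ (i + 1) * (a : H)⁻¹ * (z ^ (i + 1))⁻¹)) := by group
        _ = (a : H) * ((b : H) * (z ^ (i + 1) * (a : H)⁻¹ * (z ^ (i + 1))⁻¹)) * (z ^ (i + 1) * (b : H)⁻¹ * (z ^ (i + 1))⁻¹) := by rw [e2]; group
        _ = _ := by rw [← e1]; group
    have hb : φ ⟨a₀, ha₀⟩ ≠ 1 := fun h => ha₀1 (eq_one_of_commute_pgroup hC hzi1 hzip (hA₁cop _ ha₀) (by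
      have h' : a₀ * (z ^ (i + 1) * a₀⁻¹ * (z ^ (i + 1))⁻¹) = 1 := congrArg Subtype.val h
      show a₀ * z ^ (i + 1) = z ^ (i + 1) * a₀
      calc a₀ * z ^ (i + 1) = (a₀ * (z ^ (i + 1) * a₀⁻¹ * (z ^ (i + 1))⁻¹)) * (z ^ (i + 1) * a₀) := by group
        _ = _ := by rw [h', one_mul]))
    set P' := ∏ a : A₁, ψ (j a * zN ^ (i + 1) * (j a)⁻¹) w with hP'
    have hform : ∀ a : A₁, ψ (j a * zN ^ (i + 1) * (j a)⁻¹) w = ψ (j (φ a)) (ψ (zN ^ (i + 1)) w) := by
      intro a
      rw [← MulAut.mul_apply, ← map_mul]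
      congr 2
      apply Subtype.ext
      show (a : H) * z ^ (i + 1) * (a : H)⁻¹ = (a : H) * (z ^ (i + 1) * (a : H)⁻¹ * (z ^ (i + 1))⁻¹) * z ^ (i + 1)
      group
    have hfix : ψ (j (φ ⟨a₀, ha₀⟩)) P' = P' := by
      rw [hP', map_prod]
      refine Fintype.prod_equiv (Equiv.mulLeft ⟨a₀, ha₀⟩) _ _ fun a => ?_
      rw [Equiv.coe_mulLeft, hform, hform, hφmul, ← MulAut.mul_apply, ← map_mul]
      rfl
    apply Subtype.ext
    show (P' : H) = 1
    by_contra hP1
    refine hb (Subtype.ext (eq_one_of_commute_pgroup hC hP1 (hexpE _ (hVE P'.2))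
      (hA₁cop _ (φ ⟨a₀, ha₀⟩).2) ?_))
    have := congrArg Subtype.val hfix
    rw [hψ] at this
    exact mul_inv_eq_iff_eq_mul.1 this
  rw [Finset.prod_eq_one hrest, one_mul] at hsum
  simp only [pow_zero, mul_one, mul_inv_cancel, map_one, MulAut.one_apply, Finset.prod_const,
    Finset.card_univ] at hsum
  refine hv₀1 ?_
  have h1 : v₀ ^ Fintype.card A₁ = 1 := by
    have := congrArg Subtype.val hsum; simpa [hw] using this
  have h2 : (Fintype.card A₁).Coprime (orderOf v₀) := by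
    rw [← Nat.card_eq_fintype_card, ← Nat.card_congr (A₀.equivMapOfInjective ι hιinj).toEquiv, hA₀card]
    exact (((Nat.Prime.coprime_iff_not_dvd hp.out).2 hAp).symm).coprime_dvd_right
      (orderOf_dvd_of_pow_eq_one (hexpE _ hv₀.1))
  exact orderOf_eq_one_iff.1 (Nat.eq_one_of_dvd_coprimes h2 (orderOf_dvd_of_pow_eq_one h1) dvd_rfl)

end Cfsg.Agent.CS64
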