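import Mathlib.GroupTheory.Sylow
import Mathlib.GroupTheory.GroupAction.Quotient
import Mathlib.GroupTheory.PGroup
import Mathlib.GroupTheory.Perm.Cycle.Type

/-!
Conjugacy class sizes and prime-power elements: elementary tools (helper64).
-/

set_option autoImplicit false

namespace Cfsg.Agent.CS64

open Subgroup

variable {G : Type*} [Group G]

/-- The size of the conjugacy class of `g`. -/
noncomputable def sz (g : G) : ℕ := (centralizer ({g} : Set G)).index

/-- `g` is a non-central element of `ℓ`-power order. -/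
def Ess (ℓ : ℕ) (g : G) : Prop := g ∉ center G ∧ ∃ k : ℕ, g ^ ℓ ^ k = 1

/-- No other class size is a proper multiple of `s`. -/
def MinSz (G : Type*) [Group G] (s : ℕ) : Prop := ∀ g : G, s ∣ sz g → sz g = s

/-- No other non-central class size is a proper divisor of `s`. -/
def MaxSz (G : Type*) [Group G] (s : ℕ) : Prop := ∀ g : G, g ∉ center G → sz g ∣ s → sz g = s

theorem mem_C {g y : G} : y ∈ centralizer ({g} : Set G) ↔ Commute y g :=
  mem_centralizer_singleton_iff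

theorem center_le_C (g : G) : center G ≤ centralizer ({g} : Set G) :=
  fun _ hz => mem_C.2 ((Subgroup.mem_center_iff.1 hz g).symm)

theorem sz_eq_one_iff {g : G} : sz g = 1 ↔ g ∈ center G := by
  rw [sz, Subgroup.index_eq_one, Subgroup.centralizer_eq_top_iff_subset, Set.singleton_subset_iff]
  rfl

theorem sz_dvd (g : G) : sz g ∣ (center G).index := index_dvd_of_le (center_le_C g)

theorem sz_dvd_of_le {g h : G} (hle : centralizer ({g} : Set G) ≤ centralizer ({h} : Set G)) :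
    sz h ∣ sz g := index_dvd_of_le hle

variable [Finite G]

theorem sz_pos (g : G) : 0 < sz g := Nat.pos_of_ne_zero index_ne_zero_of_finite

theorem C_eq_of_le {g h : G} (hle : centralizer ({g} : Set G) ≤ centralizer ({h} : Set G))
    (hs : sz h = sz g) : centralizer ({g} : Set G) = centralizer ({h} : Set G) := by
  refine le_antisymm hle ?_
  rw [← relIndex_eq_one]
  have h1 := relIndex_mul_index hle
  rw [show (centralizer ({h} : Set G)).index = (centralizer ({g} : Set G)).index from hs] at h1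
  exact Nat.eq_of_mul_eq_mul_right (Nat.pos_of_ne_zero index_ne_zero_of_finite)
    (h1.trans (one_mul _).symm)

theorem sz_conj (x g : G) : sz (x * g * x⁻¹) = sz g := by
  have h : centralizer ({x * g * x⁻¹} : Set G) =
      (centralizer ({g} : Set G)).map (MulAut.conj x).toMonoidHom := by
    ext y
    rw [Subgroup.mem_map_equiv, mem_C, mem_C, MulAut.conj_symm_apply, commute_iff_eq, commute_iff_eq]
    constructor <;> intro e
    · calc x⁻¹ * y * x * g = x⁻¹ * (y * (x * g * x⁻¹)) * x := by group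
        _ = x⁻¹ * ((x * g * x⁻¹) * y) * x := by rw [e]
        _ = g * (x⁻¹ * y * x) := by group
    · calc y * (x * g * x⁻¹) = x * (x⁻¹ * y * x * g) * x⁻¹ := by group
        _ = x * (g * (x⁻¹ * y * x)) * x⁻¹ := by rw [e]
        _ = x * g * x⁻¹ * y := by group
  unfold sz
  rw [h]
  exact index_map_equiv _ (MulAut.conj x)

theorem sz_mk_mul (g : G) :
    (center G).relIndex (centralizer ({g} : Set G)) * sz g = (center G).index :=
  relIndex_mul_index (center_le_C g)

/-- The prime component of an element which is non-central modulo the centre. -/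
theorem ess_pow_of_dvd {ℓ : ℕ} (hℓ : ℓ.Prime) {g : G}
    (h : ℓ ∣ orderOf (QuotientGroup.mk g : G ⧸ center G)) :
    Ess ℓ (g ^ ordCompl[ℓ] (orderOf g)) := by
  refine ⟨fun hc => ?_, (orderOf g).factorization ℓ, ?_⟩
  · have h1 : (QuotientGroup.mk g : G ⧸ center G) ^ ordCompl[ℓ] (orderOf g) = 1 := by
      rw [← QuotientGroup.mk_pow, QuotientGroup.eq_one_iff]; exact hc
    exact Nat.not_dvd_ordCompl hℓ (orderOf_pos g).ne' (h.trans (orderOf_dvd_of_pow_eq_one h1))
  · rw [← pow_mul, mul_comm, Nat.ordProj_mul_ordCompl_eq_self, pow_orderOf_eq_one]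

/-- Every non-central element has a non-central prime-power part. -/
theorem exists_component {g : G} (hg : g ∉ center G) :
    ∃ (ℓ k : ℕ), ℓ.Prime ∧ Ess ℓ (g ^ k) := by
  have h1 : orderOf (QuotientGroup.mk g : G ⧸ center G) ≠ 1 := fun h =>
    hg ((QuotientGroup.eq_one_iff g).1 (orderOf_eq_one_iff.1 h))
  obtain ⟨ℓ, hℓ, hdvd⟩ := Nat.exists_prime_and_dvd h1
  exact ⟨ℓ, _, hℓ, ess_pow_of_dvd hℓ hdvd⟩

theorem C_le_C_pow (g : G) (k : ℕ) :
    centralizer ({g} : Set G) ≤ centralizer ({g ^ k} : Set G) :=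
  fun _ hy => mem_C.2 ((mem_C.1 hy).pow_right k)

/-- An element of a class of minimal centralizer is centralized by coprime elements. -/
theorem C_le_of_min {ℓ m : ℕ} (hℓ : ℓ.Prime) (hm : m.Prime) (hne : ℓ ≠ m) {g y : G}
    (hg : Ess ℓ g) (hy : ∃ k : ℕ, y ^ m ^ k = 1) (hmin : MinSz G (sz g)) (hc : Commute y g) :
    centralizer ({g} : Set G) ≤ centralizer ({y} : Set G) := by
  obtain ⟨i, hi⟩ := hg.2
  obtain ⟨j, hj⟩ := hy
  have hcop : (ℓ ^ i).Coprime (m ^ j) := ((Nat.coprime_primes hℓ hm).2 hne).pow _ _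
  obtain ⟨s, hs1, hs2⟩ := Nat.chineseRemainder hcop 1 0
  obtain ⟨t, ht1, ht2⟩ := Nat.chineseRemainder hcop 0 1
  have e1 : (g * y) ^ s = g := by
    rw [hc.symm.mul_pow, pow_eq_pow_of_modEq hs1 hi, pow_one, pow_eq_pow_of_modEq hs2 hj, pow_zero,
      mul_one]
  have e2 : (g * y) ^ t = y := by
    rw [hc.symm.mul_pow, pow_eq_pow_of_modEq ht1 hi, pow_zero, pow_eq_pow_of_modEq ht2 hj, pow_one,
      one_mul]
  have h1 : centralizer ({g * y} : Set G) ≤ centralizer ({g} : Set G) := by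
    simpa only [e1] using C_le_C_pow (g * y) s
  have h2 : centralizer ({g * y} : Set G) ≤ centralizer ({y} : Set G) := by
    simpa only [e2] using C_le_C_pow (g * y) t
  exact (C_eq_of_le h1 (hmin _ (sz_dvd_of_le h1)).symm).ge.trans h2

theorem card_map_C (g : G) :
    Nat.card ((centralizer ({g} : Set G)).map (QuotientGroup.mk' (center G))) =
      (center G).relIndex (centralizer ({g} : Set G)) := by
  have h := Subgroup.relIndex_ker (K := centralizer ({g} : Set G)) (QuotientGroup.mk' (center G))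
  rw [QuotientGroup.ker_mk'] at h
  rw [h]

/-- A prime dividing `|C(g)/Z|` gives a non-central element in `C(g)`. -/
theorem exists_ess {ℓ : ℕ} (hℓ : ℓ.Prime) {g : G} (h : ℓ * sz g ∣ (center G).index) :
    ∃ y : G, Ess ℓ y ∧ Commute y g := by
  haveI := Fact.mk hℓ
  rw [← sz_mk_mul g] at h
  have hdvd : ℓ ∣ (center G).relIndex (centralizer ({g} : Set G)) :=
    Nat.dvd_of_mul_dvd_mul_right (sz_pos g) h
  set C := centralizer ({g} : Set G) with hC
  obtain ⟨z, hz⟩ := exists_prime_orderOf_dvd_card' (G := C.map (QuotientGroup.mk' (center G))) ℓ (by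
    rw [hC, card_map_C]; exact hdvd)
  obtain ⟨y, hy, hyz⟩ := Subgroup.mem_map.1 z.2
  have : ℓ ∣ orderOf (QuotientGroup.mk y : G ⧸ center G) := by
    rw [← hz, ← Subgroup.orderOf_coe, ← hyz]; rfl
  exact ⟨_, ess_pow_of_dvd hℓ this, (mem_C.1 hy).pow_left _⟩

theorem Ess.dvd {ℓ : ℕ} (hℓ : ℓ.Prime) {y g : G} (hy : Ess ℓ y) (hc : Commute y g) :
    ℓ * sz g ∣ (center G).index := by
  obtain ⟨k, hk⟩ := hy.2
  rw [← sz_mk_mul g]
  refine Nat.mul_dvd_mul_right ?_ _
  have h1 : (QuotientGroup.mk y : G ⧸ center G) ^ ℓ ^ k = 1 := by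
    rw [← QuotientGroup.mk_pow, hk]; rfl
  obtain ⟨j, -, hj⟩ := (Nat.dvd_prime_pow hℓ).1 (orderOf_dvd_of_pow_eq_one h1)
  have hj0 : j ≠ 0 := fun h => hy.1 ((QuotientGroup.eq_one_iff y).1
    (orderOf_eq_one_iff.1 (by rw [hj, h, pow_zero])))
  set C := centralizer ({g} : Set G) with hC
  have hmem : (QuotientGroup.mk y : G ⧸ center G) ∈ C.map (QuotientGroup.mk' (center G)) :=
    Subgroup.mem_map.2 ⟨y, mem_C.2 hc, rfl⟩
  have hcard : Nat.card (C.map (QuotientGroup.mk' (center G))) = (center G).relIndex C := card_map_C g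
  rw [← hcard]
  refine (dvd_pow_self ℓ hj0).trans ?_
  rw [← hj]
  exact Subgroup.orderOf_dvd_natCard _ hmem

theorem Ess.dvd_self {ℓ : ℕ} (hℓ : ℓ.Prime) {g : G} (hg : Ess ℓ g) :
    ℓ * sz g ∣ (center G).index := hg.dvd hℓ (Commute.refl g)

theorem Ess.conj {ℓ : ℕ} {g : G} (hg : Ess ℓ g) (x : G) : Ess ℓ (x * g * x⁻¹) := by
  obtain ⟨k, hk⟩ := hg.2
  refine ⟨fun h => hg.1 ?_, k, by rw [conj_pow, hk, mul_one, mul_inv_cancel]⟩
  have := Subgroup.mem_center_iff.1 h x
  rw [show x * g * x⁻¹ * x = x * g by group] at this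
  have e : x * g * x⁻¹ = g := mul_left_cancel (a := x) this
  rwa [e] at h

/-- If `ℓ` does not divide the class size of `u`, then `C(u)` contains conjugates of all `ℓ`-elements. -/
theorem exists_conj {ℓ : ℕ} (hℓ : ℓ.Prime) {u y : G} (h : ¬ ℓ ∣ sz u) (hy : Ess ℓ y) :
    ∃ y' : G, Ess ℓ y' ∧ sz y' = sz y ∧ Commute y' u := by
  haveI := Fact.mk hℓ
  obtain ⟨k, hk⟩ := hy.2
  have hp : IsPGroup ℓ (zpowers y) := by
    rintro ⟨z, i, rfl⟩
    refine ⟨k, Subtype.ext ?_⟩
    show (y ^ i) ^ ℓ ^ k = 1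
    rw [← zpow_natCast, ← zpow_mul, mul_comm, zpow_mul, zpow_natCast, hk, one_zpow]
  obtain ⟨Q, hQ⟩ := hp.exists_le_sylow
  set C := centralizer ({u} : Set G) with hC
  obtain ⟨S⟩ := Sylow.nonempty (p := ℓ) (G := C)
  let S' : Sylow ℓ G := (S.2.map C.subtype).toSylow (by
    rw [Subgroup.index_map_subtype]
    exact fun hd => (hℓ.dvd_mul.1 hd).elim S.not_dvd_index h)
  obtain ⟨x, hx⟩ := MulAction.exists_smul_eq G Q S'
  refine ⟨x * y * x⁻¹, hy.conj x, sz_conj x y, mem_C.1 (?_ : x * y * x⁻¹ ∈ C)⟩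
  have h1 : x * y * x⁻¹ ∈ ((x • Q : Sylow ℓ G) : Subgroup G) := by
    rw [Sylow.smul_def, Sylow.pointwise_smul_def]
    exact Subgroup.smul_mem_pointwise_smul y (MulAut.conj x) _ (hQ (mem_zpowers y))
  rw [hx] at h1
  have h2 : x * y * x⁻¹ ∈ (S : Subgroup C).map C.subtype := h1
  exact Subgroup.map_subtype_le _ h2

/-- An element of a given class size with prime power order. -/
theorem exists_size {ℓ s : ℕ} (hℓ : ℓ.Prime) (hex : ∃ g : G, sz g = s) (hs : s ≠ 1)
    (hmin : MinSz G s) (hmax : MaxSz G s) (h : ℓ * s ∣ (center G).index) :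
    ∃ y : G, Ess ℓ y ∧ sz y = s := by
  obtain ⟨g, hg⟩ := hex
  have hgc : g ∉ center G := fun hc => hs (hg ▸ sz_eq_one_iff.2 hc)
  obtain ⟨m, k, hm, hess⟩ := exists_component hgc
  have hsg : sz (g ^ k) = s := hmax _ hess.1 (hg ▸ sz_dvd_of_le (C_le_C_pow g k))
  by_cases hml : m = ℓ
  · subst hml; exact ⟨_, hess, hsg⟩
  · obtain ⟨y, hy, hc⟩ := exists_ess hℓ (g := g ^ k) (hsg ▸ h)
    have := C_le_of_min hm hℓ hml hess hy.2 (hsg ▸ hmin) hc
    exact ⟨y, hy, hmax _ hy.1 (hsg ▸ sz_dvd_of_le this)⟩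

/-- Commuting `ℓ`-elements have the same class size, when that of one of them is extremal. -/
theorem same_size {ℓ m : ℕ} (hℓ : ℓ.Prime) (hm : m.Prime) (hne : ℓ ≠ m) {x y : G}
    (hx : Ess ℓ x) (hy : Ess ℓ y) (hxy : Commute x y) (hdvd : m * sz y ∣ (center G).index)
    (hmin : MinSz G (sz y)) (hmax : MaxSz G (sz y)) : sz x = sz y := by
  obtain ⟨w, hw, hwc⟩ := exists_ess hm hdvd
  have h1 := C_le_of_min hℓ hm hne hy hw.2 hmin hwc
  have hsw : sz w = sz y := hmax _ hw.1 (sz_dvd_of_le h1)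
  have h2 : x ∈ centralizer ({w} : Set G) := h1 (mem_C.2 hxy)
  have h3 := C_le_of_min hm hℓ hne.symm hw hx.2 (hsw ▸ hmin) (mem_C.1 h2)
  exact hmax _ hx.1 (hsw ▸ sz_dvd_of_le h3)

/-- The class of the image in `G / Z(G)` of an element of prime power order. -/
theorem index_mk {ℓ : ℕ} (hℓ : ℓ.Prime) {g : G} (hg : Ess ℓ g) :
    ∃ k : ℕ, sz g =
        (centralizer ({(QuotientGroup.mk g : G ⧸ center G)} : Set (G ⧸ center G))).index * ℓ ^ k ∧
      (k = 0 → centralizer ({(QuotientGroup.mk g : G ⧸ center G)} : Set (G ⧸ center G)) =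
        (centralizer ({g} : Set G)).map (QuotientGroup.mk' (center G))) := by
  haveI := Fact.mk hℓ
  obtain ⟨n, hn⟩ := hg.2
  set mk' := QuotientGroup.mk' (center G) with hmk
  set D := (centralizer ({mk' g} : Set (G ⧸ center G))).comap mk' with hD
  have hz : ∀ y : D, (y : G) * g * (y : G)⁻¹ * g⁻¹ ∈ center G := by
    intro y
    rw [← QuotientGroup.eq_one_iff]
    have h := mem_C.1 (Subgroup.mem_comap.1 y.2)
    show mk' ((y : G) * g * (y : G)⁻¹ * g⁻¹) = 1
    rw [map_mul, map_mul, map_mul, map_inv, map_inv, h.eq]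
    group
  let φ : D →* center G := MonoidHom.mk' (fun y => ⟨_, hz y⟩) (fun a b => by
    apply Subtype.ext
    show (↑(a * b) : G) * g * (↑(a * b) : G)⁻¹ * g⁻¹ = _ * _
    have e := Subgroup.mem_center_iff.1 (hz b) (a : G)
    calc (↑(a * b) : G) * g * (↑(a * b) : G)⁻¹ * g⁻¹
        = (a : G) * (((b : G) * g * (b : G)⁻¹ * g⁻¹) * g) * (a : G)⁻¹ * g⁻¹ := by
          rw [Subgroup.coe_mul]; group
      _ = ((a : G) * ((b : G) * g * (b : G)⁻¹ * g⁻¹)) * g * (a : G)⁻¹ * g⁻¹ := by group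
      _ = ((b : G) * g * (b : G)⁻¹ * g⁻¹ * (a : G)) * g * (a : G)⁻¹ * g⁻¹ := by rw [e]
      _ = ((b : G) * g * (b : G)⁻¹ * g⁻¹) * ((a : G) * g * (a : G)⁻¹ * g⁻¹) := by group
      _ = _ := (Subgroup.mem_center_iff.1 (hz b) _).symm)
  have hker : φ.ker = (centralizer ({g} : Set G)).subgroupOf D := by
    ext y
    rw [MonoidHom.mem_ker, Subgroup.mem_subgroupOf, mem_C, commute_iff_eq, ← mul_inv_eq_iff_eq_mul,
      Subtype.ext_iff]
    exact mul_inv_eq_one
  have hrange : IsPGroup ℓ φ.range := by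
    rintro ⟨z, y, rfl⟩
    refine ⟨n, Subtype.ext (Subtype.ext ?_)⟩
    show ((y : G) * g * (y : G)⁻¹ * g⁻¹) ^ ℓ ^ n = 1
    set z := (y : G) * g * (y : G)⁻¹ * g⁻¹ with hz'
    have hcm : Commute z g := (Subgroup.mem_center_iff.1 (hz y) g).symm
    have e : z * g = (y : G) * g * (y : G)⁻¹ := by rw [hz']; group
    have e2 : (z * g) ^ ℓ ^ n = 1 := by rw [e, conj_pow, hn, mul_one, mul_inv_cancel]
    rwa [hcm.mul_pow, hn, mul_one] at e2
  obtain ⟨k, hk⟩ := IsPGroup.iff_card.1 hrange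
  have hle : centralizer ({g} : Set G) ≤ D := fun y hy =>
    Subgroup.mem_comap.2 (mem_C.2 ((mem_C.1 hy).map mk'))
  have h1 : (centralizer ({g} : Set G)).relIndex D = ℓ ^ k := by
    rw [relIndex, ← hker, Subgroup.index_ker, hk]
  refine ⟨k, ?_, fun hk0 => ?_⟩
  · rw [← index_comap_of_surjective _ (QuotientGroup.mk'_surjective (center G))]
    rw [mul_comm, ← h1]
    exact (relIndex_mul_index hle).symm
  · rw [hk0, pow_zero, relIndex_eq_one] at h1
    rw [← le_antisymm h1 hle, hD, map_comap_eq_self_of_surjective (QuotientGroup.mk'_surjective _)]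
    rfl

/-- Elements of prime-power order of `G / Z(G)` lift to elements of prime-power order. -/
theorem exists_lift {ℓ : ℕ} (hℓ : ℓ.Prime) {z : G ⧸ center G} (hz : z ≠ 1)
    (hp : ∃ k : ℕ, z ^ ℓ ^ k = 1) :
    ∃ g : G, Ess ℓ g ∧ ∀ y : G ⧸ center G, Commute y z ↔ Commute y (QuotientGroup.mk g) := by
  obtain ⟨g, rfl⟩ := QuotientGroup.mk_surjective z
  obtain ⟨k, hk⟩ := hp
  obtain ⟨j, -, hj⟩ := (Nat.dvd_prime_pow hℓ).1 (orderOf_dvd_of_pow_eq_one hk)
  have hj0 : j ≠ 0 := fun h => hz (orderOf_eq_one_iff.1 (by rw [hj, h, pow_zero]))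
  refine ⟨_, ess_pow_of_dvd hℓ (g := g) (hj ▸ dvd_pow_self ℓ hj0), fun y => ?_⟩
  rw [QuotientGroup.mk_pow]
  have hcop : (orderOf (QuotientGroup.mk g : G ⧸ center G)).Coprime (ordCompl[ℓ] (orderOf g)) := by
    rw [hj]; exact (Nat.coprime_ordCompl hℓ (orderOf_pos g).ne').pow_left j
  refine ⟨fun h => h.pow_right _, fun h => ?_⟩
  obtain ⟨s, hs⟩ := exists_pow_eq_self_of_coprime hcop.symm
  rw [← hs]; exact h.pow_right _

end Cfsg.Agent.CS64
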